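import Cfsg.Agent.EqLemmas
import Cfsg.Agent.Lib.RGD.Core
import Cfsg.Agent.Lib.RGD.NormalForm

/-!
# The big cell of root group data modulo `p`

For a long word `l₀` with representative `n₀`, the structure constants of the cells `U n₀ h U` are
independent of the torus parameters modulo `p`: the operators `T l` (sums over `Uminus l`) keep the
functions supported on the big cell, and `T l₀` makes them invariant under each rank one torus.
-/

set_option autoImplicit false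

namespace Cfsg.Agent.ChevBlocks

open Cfsg.Agent.RGD Cfsg.Agent.RGD.RootData

variable {Γ : Type*} [Group Γ] {Φ I : Type*} (R : RootData Γ Φ I) (l₀ : List I)

/-- `g` lies in `U n₀ H U`. -/
def InCell (g : Γ) : Prop :=
  ∃ a ∈ R.Upos, ∃ h ∈ R.H, ∃ b ∈ R.Upos, g = a * R.nw l₀ * h * b

/-- Bi-invariant functions supported on the big cell. -/
structure InC {A : Type*} [Zero A] (f : Γ → A) : Prop where
  left : ∀ g, ∀ a ∈ R.Upos, f (a * g) = f g
  right : ∀ g, ∀ a ∈ R.Upos, f (g * a) = f g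
  supp : ∀ g, ¬ InCell R l₀ g → f g = 0

/-- The rank one data: the torus part `η a` of `a n⁻¹`, and its uniformity along `K`. -/
def RankTorus (i : I) (K : Subgroup Γ) : Prop :=
  ∃ η : Γ → Γ,
    (∀ a ∈ R.U (R.simple i), a ≠ 1 → η a ∈ R.H ∧
      ∃ y ∈ R.U (R.neg (R.simple i)), ∃ c ∈ R.U (R.simple i), a * (R.n i)⁻¹ = y * η a * c) ∧
    ∀ k ∈ K, ∃ π : R.U (R.simple i) ≃ R.U (R.simple i), π 1 = 1 ∧
      ∀ a : R.U (R.simple i), a ≠ 1 → η (π a : Γ) = η (a : Γ) * k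

section lemmas

variable {R l₀}

lemma Upos_conj_H {h : Γ} (hh : h ∈ R.H) {a : Γ} (ha : a ∈ R.Upos) : h * a * h⁻¹ ∈ R.Upos :=
  R.H_conj_span _ hh a ha

lemma Upos_conj_H' {h : Γ} (hh : h ∈ R.H) {a : Γ} (ha : a ∈ R.Upos) : h⁻¹ * a * h ∈ R.Upos := by
  have h1 := R.H_conj_span _ (inv_mem hh) a ha
  rwa [inv_inv] at h1

variable (hl₀ : ∀ r, R.pos r → ¬ R.pos (R.ww l₀ r))
include hl₀

lemma nw_conj_neg {i : I} {y : Γ} (hy : y ∈ R.U (R.neg (R.simple i))) :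
    R.nw l₀ * y * (R.nw l₀)⁻¹ ∈ R.Upos := by
  refine R.U_le_Upos ?_ (R.conj_U_mem (R.map_conj_U l₀ _) hy)
  rw [R.ww_neg, R.pos_neg]
  exact hl₀ _ (R.pos_simple i)

lemma nw_sq_mem : R.nw l₀ * R.nw l₀ ∈ R.H := by
  rw [← R.nw_append]
  refine R.mem_H_of_pos fun r hr => ?_
  rw [R.ww_append]
  by_contra h
  refine hl₀ (R.neg (R.ww l₀ r)) ((R.pos_neg _).2 (hl₀ r hr)) ?_
  rw [R.ww_neg, R.pos_neg]
  exact h

lemma Uminus_long : R.Uminus l₀ = R.Upos := by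
  unfold Uminus Upos
  congr 1
  ext r
  exact ⟨fun h => h.1, fun h => ⟨h, hl₀ r h⟩⟩

/-- `n₀ h n⁻¹` is not in the big cell. -/
lemma not_inCell_n (i : I) {h : Γ} (hh : h ∈ R.H) :
    ¬ InCell R l₀ (R.nw l₀ * h * (R.n i)⁻¹) := by
  rintro ⟨a, ha, h', hh', b, hb, e⟩
  have h1 := R.mem_H_of_eq (n := R.nw l₀ * h * (R.n i)⁻¹) (n' := R.nw l₀ * h')
    (mul_mem (mul_mem (R.nw_mem_N _) (R.H_le_N hh)) (inv_mem (R.n_mem_N i)))
    (mul_mem (R.nw_mem_N _) (R.H_le_N hh')) (one_mem _) (one_mem _) (R.Upos_le_B ha)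
    (R.Upos_le_B hb) (by rw [one_mul, mul_one, e, mul_assoc a])
  rw [show (R.nw l₀ * h * (R.n i)⁻¹)⁻¹ * (R.nw l₀ * h') = R.n i * (h⁻¹ * h') by group] at h1
  have h2 := mul_mem h1 (inv_mem (mul_mem (inv_mem hh) hh'))
  rw [mul_inv_cancel_right] at h2
  exact R.n_not_mem_H i h2

/-- Normal form in the big cell. -/
lemma cell_unique {a a' b h h' : Γ} (ha : a ∈ R.Upos) (ha' : a' ∈ R.Upos) (hb : b ∈ R.Upos)
    (hh : h ∈ R.H) (hh' : h' ∈ R.H) (e : a * (R.nw l₀ * h) * b = a' * (R.nw l₀ * h')) :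
    a = a' ∧ h = h' := by
  have hb' : b ∈ R.Uminus l₀ := by rw [Uminus_long hl₀]; exact hb
  obtain ⟨e1, e2⟩ := R.normalForm_unique (k := 1) (one_mem _) (one_mul _).symm
    (b := a * (R.nw l₀ * h * (R.nw l₀)⁻¹)) (b' := a' * (R.nw l₀ * h' * (R.nw l₀)⁻¹))
    (mul_mem (R.Upos_le_B ha) (R.H_le_B (R.nw_conj_H l₀ hh)))
    (mul_mem (R.Upos_le_B ha') (R.H_le_B (R.nw_conj_H l₀ hh'))) hb' (one_mem _)
    (by
      rw [mul_one, show a * (R.nw l₀ * h * (R.nw l₀)⁻¹) * R.nw l₀ * b =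
        a * (R.nw l₀ * h) * b by group,
        show a' * (R.nw l₀ * h' * (R.nw l₀)⁻¹) * R.nw l₀ = a' * (R.nw l₀ * h') by group, e])
  have hb1 : b = 1 := e2
  subst hb1
  have h3 : a'⁻¹ * a ∈ R.Upos ⊓ R.H := by
    refine Subgroup.mem_inf.2 ⟨mul_mem (inv_mem ha') ha, ?_⟩
    rw [show a'⁻¹ * a = (R.nw l₀ * h' * (R.nw l₀)⁻¹) * (R.nw l₀ * h * (R.nw l₀)⁻¹)⁻¹ by
      rw [eq_mul_inv_iff_mul_eq, mul_assoc, e1]; group]
    exact mul_mem (R.nw_conj_H l₀ hh') (inv_mem (R.nw_conj_H l₀ hh))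
  rw [show R.Upos ⊓ R.H = ⊥ from R.U_inf_H, Subgroup.mem_bot, inv_mul_eq_one] at h3
  subst h3
  rw [mul_one] at e
  exact ⟨rfl, mul_left_cancel (mul_left_cancel e)⟩

/-- Outside the big cell `U` meets a conjugate. -/
lemma exists_rel (hLong : ∀ l, (∀ j, ¬ R.pos (R.ww l (R.simple j))) →
      ∀ r, R.pos r → ¬ R.pos (R.ww l r))
    {g : Γ} (hg : g ∈ R.G) (hnc : ¬ InCell R l₀ g) :
    ∃ v ∈ R.Upos, v ≠ 1 ∧ g⁻¹ * v * g ∈ R.Upos := by
  obtain ⟨b, hb, l, u, hu, rfl⟩ := R.exists_normalForm hg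
  by_cases hall : ∀ j, ¬ R.pos (R.ww l (R.simple j))
  · refine absurd ?_ hnc
    have h1 : R.nw (l₀ ++ l) ∈ R.H := R.mem_H_of_pos fun r hr => by
      rw [R.ww_append]
      by_contra h
      refine hl₀ (R.neg (R.ww l r)) ((R.pos_neg _).2 (hLong l hall r hr)) ?_
      rw [R.ww_neg, R.pos_neg]
      exact h
    obtain ⟨a, ha, h, hh, rfl⟩ := R.exists_B hb
    set k := R.nw l * (R.nw l₀)⁻¹ with hk
    have hkH : k ∈ R.H := by
      have h2 := R.nw_conj_H' l₀ (mul_mem h1 (inv_mem (nw_sq_mem hl₀)))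
      rw [R.nw_append, show (R.nw l₀)⁻¹ * (R.nw l₀ * R.nw l * (R.nw l₀ * R.nw l₀)⁻¹) * R.nw l₀ = k by
        rw [hk]; group] at h2
      exact h2
    refine ⟨a, ha, (R.nw l₀)⁻¹ * (h * k) * R.nw l₀, R.nw_conj_H' l₀ (mul_mem hh hkH), u,
      R.Uminus_le_Upos l hu, ?_⟩
    rw [hk]; group
  · push Not at hall
    obtain ⟨j, hj⟩ := hall
    obtain ⟨z, hz, hz1⟩ := SetLike.exists_of_lt (bot_lt_iff_ne_bot.2 (R.U_ne_bot (R.simple j)))
    rw [Subgroup.mem_bot] at hz1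
    have hzU := R.U_le_Upos (R.pos_simple j) hz
    have h1 : R.nw l * z * (R.nw l)⁻¹ ∈ R.Upos :=
      R.U_le_Upos hj (R.conj_U_mem (R.map_conj_U l _) hz)
    obtain ⟨a, ha, h, hh, rfl⟩ := R.exists_B hb
    refine ⟨a * h * (R.nw l * z * (R.nw l)⁻¹) * h⁻¹ * a⁻¹, ?_, ?_, ?_⟩
    · rw [show a * h * (R.nw l * z * (R.nw l)⁻¹) * h⁻¹ * a⁻¹ =
        a * (h * (R.nw l * z * (R.nw l)⁻¹) * h⁻¹) * a⁻¹ by group]
      exact mul_mem (mul_mem ha (Upos_conj_H hh h1)) (inv_mem ha)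
    · intro e
      refine hz1 ?_
      have e' := congrArg (fun x => (R.nw l)⁻¹ * h⁻¹ * a⁻¹ * x * a * h * R.nw l) e
      simpa [mul_assoc] using e'
    · have hu' := R.Uminus_le_Upos l hu
      rw [show (a * h * R.nw l * u)⁻¹ * (a * h * (R.nw l * z * (R.nw l)⁻¹) * h⁻¹ * a⁻¹) *
        (a * h * R.nw l * u) = u⁻¹ * z * u by group]
      exact mul_mem (mul_mem (inv_mem hu') hzU) hu'

end lemmas

section operators

variable [Finite Γ]

section sums

variable {A : Type*} [AddCommMonoid A]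

/-- The sum over `Uminus l`. -/
noncomputable def T (l : List I) (f : Γ → A) (g : Γ) : A :=
  have := Fintype.ofFinite (R.Uminus l)
  ∑ u : R.Uminus l, f (g * u * (R.nw l)⁻¹)

/-- The sum over a fundamental root group. -/
noncomputable def S (i : I) (f : Γ → A) (g : Γ) : A :=
  have := Fintype.ofFinite (R.U (R.simple i))
  ∑ a : R.U (R.simple i), f (g * a * (R.n i)⁻¹)

theorem T_eq (l : List I) [Fintype (R.Uminus l)] (f : Γ → A) (g : Γ) :
    T R l f g = ∑ u : R.Uminus l, f (g * u * (R.nw l)⁻¹) := by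
  unfold T
  exact Finset.sum_congr (by ext; simp) fun _ _ => rfl

theorem S_eq (i : I) [Fintype (R.U (R.simple i))] (f : Γ → A) (g : Γ) :
    S R i f g = ∑ a : R.U (R.simple i), f (g * a * (R.n i)⁻¹) := by
  unfold S
  exact Finset.sum_congr (by ext; simp) fun _ _ => rfl

variable {R l₀}

theorem T_nil (f : Γ → A) : T R [] f = f := by
  classical
  funext g
  have hbot : R.Uminus [] = ⊥ := by
    rw [eq_bot_iff]
    exact R.span_le fun r hr => absurd hr.1 hr.2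
  haveI : Subsingleton (R.Uminus []) := ⟨fun a b => Subtype.ext
    (((Subgroup.mem_bot).1 (hbot.le a.2)).trans ((Subgroup.mem_bot).1 (hbot.le b.2)).symm)⟩
  haveI := Fintype.ofFinite (R.Uminus [])
  rw [T_eq, Fintype.sum_subsingleton _ 1]
  simp

theorem T_congr {l l' : List I} {k : Γ} (hk : k ∈ R.H) (e : R.nw l = k * R.nw l') (f : Γ → A) :
    T R l f = T R l' (fun g => f (g * k⁻¹)) := by
  classical
  funext g
  haveI := Fintype.ofFinite (R.Uminus l)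
  haveI := Fintype.ofFinite (R.Uminus l')
  rw [T_eq, T_eq]
  refine Finset.sum_bij (fun (u : R.Uminus l) _ => (⟨(u : Γ), (R.Uminus_congr hk e).le u.2⟩ : R.Uminus l'))
    (fun u _ => Finset.mem_univ _) (fun u _ v _ h => Subtype.ext (congrArg (fun x : R.Uminus l' => (x : Γ)) h))
    (fun v _ => ⟨⟨(v : Γ), (R.Uminus_congr hk e).ge v.2⟩, Finset.mem_univ _, rfl⟩) (fun u _ => ?_)
  rw [e, mul_inv_rev, ← mul_assoc]

theorem T_concat {l : List I} {i : I} (h : R.pos (R.ww l (R.simple i))) (f : Γ → A) :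
    T R (l ++ [i]) f = S R i (T R l f) := by
  classical
  funext g
  haveI := Fintype.ofFinite (R.Uminus l)
  haveI := Fintype.ofFinite (R.Uminus (l ++ [i]))
  haveI := Fintype.ofFinite (R.U (R.simple i))
  rw [T_eq, S_eq]
  simp only [T_eq, ← Fintype.sum_prod_type']
  have hmdel : ∀ m ∈ R.Uminus l, m ∈ R.Udel i :=
    R.span_mono (A' := {s | R.pos s ∧ s ≠ R.simple i})
      (fun r hr => ⟨hr.1, fun e' => hr.2 (by rw [e']; exact h)⟩)
  have hkey : ∀ m ∈ R.Uminus l, (R.n i)⁻¹ * m * R.n i ∈ R.Uminus (l ++ [i]) := by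
    intro m hm
    have key : ∀ y ∈ R.Uminus l, (R.n i)⁻¹ * y * ((R.n i)⁻¹)⁻¹ ∈ R.Uminus (l ++ [i]) := by
      refine R.span_conj fun r hr y hy => R.U_le_span
        (A := {s | R.pos s ∧ ¬ R.pos (R.ww (l ++ [i]) s)}) (r := R.w i r) ?_ ?_
      · refine ⟨R.w_pos i r hr.1 fun e' => hr.2 (by rw [e']; exact h), ?_⟩
        simp only [ww_append, ww_cons, ww_nil, R.w_w]
        exact hr.2
      · have h1 := R.H_conj_U _ (inv_mem (R.n_sq i)) _ _ (R.n_conj_U i r y hy)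
        simpa [mul_assoc] using h1
    simpa using key m hm
  have hsimple : ∀ a ∈ R.U (R.simple i), a ∈ R.Uminus (l ++ [i]) := fun a ha =>
    R.U_le_span (A := {s | R.pos s ∧ ¬ R.pos (R.ww (l ++ [i]) s)})
      ⟨R.pos_simple i, by
        simp only [ww_append, ww_cons, ww_nil, R.w_simple, R.ww_neg, R.pos_neg, not_not]
        exact h⟩ ha
  let θ : R.U (R.simple i) × R.Uminus l → R.Uminus (l ++ [i]) := fun x =>
    ⟨x.1 * ((R.n i)⁻¹ * x.2 * R.n i), mul_mem (hsimple _ x.1.2) (hkey _ x.2.2)⟩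
  have hθ : Function.Bijective θ := by
    constructor
    · rintro ⟨a, m⟩ ⟨a', m'⟩ e
      have e' : (a : Γ) * ((R.n i)⁻¹ * m * R.n i) = a' * ((R.n i)⁻¹ * m' * R.n i) :=
        congrArg Subtype.val e
      set z := (a' : Γ)⁻¹ * a with hz
      have hz1 : z = (R.n i)⁻¹ * ((m' : Γ) * (m : Γ)⁻¹) * R.n i := by
        calc z = (a' : Γ)⁻¹ * ((a : Γ) * ((R.n i)⁻¹ * m * R.n i)) * ((R.n i)⁻¹ * m * R.n i)⁻¹ := by
              rw [hz]; group
          _ = _ := by rw [e']; group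
      have hzU : z ∈ R.U (R.simple i) := mul_mem (inv_mem a'.2) a.2
      have h2 : R.n i * z * (R.n i)⁻¹ ∈ R.B ⊓ R.Vneg := by
        refine ⟨?_, ?_⟩
        · rw [hz1, show R.n i * ((R.n i)⁻¹ * ((m' : Γ) * (m : Γ)⁻¹) * R.n i) * (R.n i)⁻¹ =
            (m' : Γ) * (m : Γ)⁻¹ by group]
          exact R.Upos_le_B (mul_mem (R.Uminus_le_Upos l m'.2) (inv_mem (R.Uminus_le_Upos l m.2)))
        · exact R.U_le_Vneg (by rw [R.pos_neg]; exact not_not.2 (R.pos_simple i))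
            (R.conj_n_simple hzU)
      rw [show R.B ⊓ R.Vneg = ⊥ from R.B_inf_V, Subgroup.mem_bot, conj_eq_one_iff] at h2
      rw [h2, eq_comm, mul_assoc] at hz1
      have ha : (a : Γ) = a' := by
        have := congrArg (fun x => (a' : Γ) * x) h2
        simpa [hz] using this
      rw [ha] at e'
      exact Prod.ext (Subtype.ext ha) (Subtype.ext (mul_left_cancel
        (mul_right_cancel (mul_left_cancel e'))))
    · rintro ⟨u, hu⟩
      obtain ⟨k, hk, a, ha, rfl⟩ := R.exists_Upos (i := i) (R.Uminus_le_Upos _ hu)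
      set k' := a⁻¹ * k * a with hk'
      have hk'd : k' ∈ R.Udel i := by
        have := R.U_conj_Udel i (inv_mem ha) k hk
        simpa [hk'] using this
      obtain ⟨q, hq, hq', m, hm, e⟩ := R.exists_split l
        (R.Udel_le_Upos i (R.n_conj_Udel i k' hk'd))
      have hk'm : k' ∈ R.Uminus (l ++ [i]) := by
        rw [hk', show a⁻¹ * k * a = a⁻¹ * (k * a) by group]
        exact mul_mem (inv_mem (hsimple a ha)) hu
      have hq1 : (R.n i)⁻¹ * q * R.n i = 1 := by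
        have h3 : (R.n i)⁻¹ * q * R.n i ∈ R.Uminus (l ++ [i]) := by
          rw [show (R.n i)⁻¹ * q * R.n i = k' * ((R.n i)⁻¹ * m * R.n i)⁻¹ by
            rw [show k' = (R.n i)⁻¹ * (R.n i * k' * (R.n i)⁻¹) * R.n i by group, e]; group]
          exact mul_mem hk'm (inv_mem (hkey m hm))
        have h4 := R.conj_Uminus (l ++ [i]) _ h3
        rw [show R.nw (l ++ [i]) * ((R.n i)⁻¹ * q * R.n i) * (R.nw (l ++ [i]))⁻¹ =
          R.nw l * q * (R.nw l)⁻¹ by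
            simp only [R.nw_append, R.nw_cons, R.nw_nil, mul_one]; group] at h4
        have h5 : R.nw l * q * (R.nw l)⁻¹ ∈ R.B ⊓ R.Vneg := ⟨R.Upos_le_B hq', h4⟩
        rw [show R.B ⊓ R.Vneg = ⊥ from R.B_inf_V, Subgroup.mem_bot, conj_eq_one_iff] at h5
        rw [h5]; group
      have hqe : q = 1 := by
        have := congrArg (fun x => R.n i * x * (R.n i)⁻¹) hq1
        simpa [mul_assoc] using this
      refine ⟨(⟨a, ha⟩, ⟨m, hm⟩), Subtype.ext ?_⟩
      show a * ((R.n i)⁻¹ * m * R.n i) = k * a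
      rw [show m = R.n i * k' * (R.n i)⁻¹ by rw [e, hqe, one_mul], hk']
      group
  refine (Fintype.sum_bijective θ hθ _ _ fun x => ?_).symm
  show f _ = f _
  congr 1
  simp only [θ, R.nw_append, R.nw_cons, R.nw_nil, mul_one]
  group

end sums

variable {R l₀} {A : Type*} [CommRing A]
variable {p : ℕ} [Fact p.Prime] [CharP A p]
variable (hl₀ : ∀ r, R.pos r → ¬ R.pos (R.ww l₀ r))
variable (hU : ∀ i, p ∣ Nat.card (R.U (R.simple i)))
variable {K : I → Subgroup Γ} (hK : ∀ i, RankTorus R i (K i))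

omit [Finite Γ] [Fact p.Prime] [CharP A p] in
theorem InC.shift {f : Γ → A} (hf : InC R l₀ f) {k : Γ} (hk : k ∈ R.H) :
    InC R l₀ (fun g => f (g * k⁻¹)) where
  left g a ha := by simp only [mul_assoc]; exact hf.left _ a ha
  right g a ha := by
    rw [show g * a * k⁻¹ = g * k⁻¹ * (k * a * k⁻¹) by group]
    exact hf.right _ _ (Upos_conj_H hk ha)
  supp g hg := hf.supp _ fun ⟨a, ha, h, hh, b, hb, e⟩ => hg ⟨a, ha, h * k, mul_mem hh hk,
    k⁻¹ * b * k, Upos_conj_H' hk hb, by rw [show g = g * k⁻¹ * k by group, e]; group⟩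

include hl₀ hU hK

omit [Fact p.Prime] in
theorem InC.S_mem {f : Γ → A} (hf : InC R l₀ f) (i : I) : InC R l₀ (S R i f) := by
  classical
  haveI := Fintype.ofFinite (R.U (R.simple i))
  refine ⟨fun g a ha => ?_, fun g b hb => ?_, fun g hg => ?_⟩
  · simp only [S_eq, mul_assoc]
    exact Finset.sum_congr rfl fun x _ => hf.left _ a ha
  · obtain ⟨k, hk, x, hx, rfl⟩ := R.exists_Upos (i := i) hb
    simp only [S_eq]
    refine Fintype.sum_equiv (Equiv.mulLeft (⟨x, hx⟩ : R.U (R.simple i))) _ _ fun a => ?_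
    set a' := x * (a : Γ) with ha'
    have ha'U : a' ∈ R.U (R.simple i) := mul_mem hx a.2
    rw [show g * (k * x) * (a : Γ) * (R.n i)⁻¹ =
      g * a' * (R.n i)⁻¹ * (R.n i * (a'⁻¹ * k * a') * (R.n i)⁻¹) by rw [ha']; group,
      hf.right _ _ (R.Udel_le_Upos i (R.n_conj_Udel i _ (by
        simpa using R.U_conj_Udel i (inv_mem ha'U) k hk)))]
    rfl
  · obtain ⟨η, hη, -⟩ := hK i
    rw [S_eq]
    by_cases hterm : ∀ a : R.U (R.simple i), ¬ InCell R l₀ (g * (a : Γ) * (R.n i)⁻¹)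
    · exact Finset.sum_eq_zero fun a _ => hf.supp _ (hterm a)
    push Not at hterm
    obtain ⟨a, c, hc, h, hh, b, hb, e⟩ := hterm
    obtain ⟨k, hk, x, hx, rfl⟩ := R.exists_Upos (i := i) hb
    have eg : g = c * R.nw l₀ * h * k * x * R.n i * (a : Γ)⁻¹ := by
      rw [show g = g * (a : Γ) * (R.n i)⁻¹ * R.n i * (a : Γ)⁻¹ by group, e]
      group
    have hainv : (a : Γ)⁻¹ ∈ R.Upos := inv_mem (R.U_le_Upos (R.pos_simple i) a.2)
    by_cases hx1 : x = 1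
    · subst hx1
      have hg' : ∀ a' : R.U (R.simple i), f (R.nw l₀ * h * R.n i * a' * (R.n i)⁻¹) =
          f (R.nw l₀ * h) := by
        intro a'
        set y := R.n i * (a' : Γ) * (R.n i)⁻¹ with hy
        rw [show R.nw l₀ * h * R.n i * a' * (R.n i)⁻¹ =
          (R.nw l₀ * (h * y * h⁻¹) * (R.nw l₀)⁻¹) * (R.nw l₀ * h) by rw [hy]; group]
        exact hf.left _ _ (nw_conj_neg hl₀ (R.H_conj_U h hh _ _ (R.conj_n_simple a'.2)))
      have hk' : (R.n i)⁻¹ * k * R.n i ∈ R.Upos := R.Udel_le_Upos i (R.Udel_conj_n' i hk)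
      have hsum : S R i f (R.nw l₀ * h * R.n i) = 0 := by
        rw [S_eq, Finset.sum_congr rfl fun a' _ => hg' a', Finset.sum_const, Finset.card_univ,
          ← Nat.card_eq_fintype_card, nsmul_eq_mul]
        rw [show ((Nat.card (R.U (R.simple i)) : ℕ) : A) = 0 from
          (CharP.cast_eq_zero_iff A p _).2 (hU i), zero_mul]
      rw [S_eq] at hsum
      rw [← hsum]
      have eg' : g = c * (R.nw l₀ * h * R.n i) * ((R.n i)⁻¹ * k * R.n i * (a : Γ)⁻¹) := by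
        rw [eg]; group
      set b' := (R.n i)⁻¹ * k * R.n i * (a : Γ)⁻¹
      have hb' : b' ∈ R.Upos := mul_mem hk' hainv
      obtain ⟨k₂, hk₂, x₂, hx₂, hb₂⟩ := R.exists_Upos (i := i) hb'
      refine Fintype.sum_equiv (Equiv.mulLeft (⟨x₂, hx₂⟩ : R.U (R.simple i))) _ _ fun z => ?_
      set z' := x₂ * (z : Γ) with hz'
      have hz'U : z' ∈ R.U (R.simple i) := mul_mem hx₂ z.2
      rw [eg', hb₂, show c * (R.nw l₀ * h * R.n i) * (k₂ * x₂) * (z : Γ) * (R.n i)⁻¹ =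
        c * (R.nw l₀ * h * R.n i * z' * (R.n i)⁻¹ * (R.n i * (z'⁻¹ * k₂ * z') * (R.n i)⁻¹)) by
          rw [hz']; group,
        hf.left _ c hc, hf.right _ _ (R.Udel_le_Upos i (R.n_conj_Udel i _ (by
          simpa using R.U_conj_Udel i (inv_mem hz'U) k₂ hk₂)))]
      rfl
    · exfalso
      apply hg
      obtain ⟨hηH, y, hy, c', hc', ex⟩ := hη x hx hx1
      obtain ⟨z, hz, rfl⟩ : ∃ z ∈ R.U (R.simple i), y = R.n i * z * (R.n i)⁻¹ := by
        refine ⟨(R.n i)⁻¹ * y * R.n i, ?_, by group⟩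
        have h4 := R.n_conj_U i _ _ hy
        rw [R.w_neg, R.w_simple, R.neg_neg] at h4
        have h5 := R.H_conj_U _ (inv_mem (R.n_sq i)) _ _ h4
        simpa [mul_assoc] using h5
      set y := R.n i * z * (R.n i)⁻¹
      set k₁ := y⁻¹ * k * y with hk₁
      have hk₁d : k₁ ∈ R.Udel i := by
        have h1 := R.n_conj_Udel i _ (R.U_conj_Udel i (inv_mem hz) _ (R.Udel_conj_n' i hk))
        convert h1 using 1
        simp only [hk₁, y]
        group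
      set d := (R.n i * R.n i) with hd
      have hc'' : d⁻¹ * c' * d ∈ R.Upos := Upos_conj_H' (R.n_sq i) (R.U_le_Upos (R.pos_simple i) hc')
      set k₂ := (η x)⁻¹ * k₁ * η x with hk₂
      have hk₂U : k₂ ∈ R.Upos := Upos_conj_H' hηH (R.Udel_le_Upos i hk₁d)
      refine ⟨c * (R.nw l₀ * (h * y * h⁻¹) * (R.nw l₀)⁻¹),
        mul_mem hc (nw_conj_neg hl₀ (R.H_conj_U h hh _ _ hy)), h * η x * d,
        mul_mem (mul_mem hh hηH) (R.n_sq i), d⁻¹ * k₂ * d * (d⁻¹ * c' * d) * (a : Γ)⁻¹,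
        mul_mem (mul_mem (Upos_conj_H' (R.n_sq i) hk₂U) hc'') hainv, ?_⟩
      rw [eg, show c * R.nw l₀ * h * k * x * R.n i * (a : Γ)⁻¹ =
        c * R.nw l₀ * h * k * (x * (R.n i)⁻¹) * d * (a : Γ)⁻¹ by rw [hd]; group, ex, hk₂, hk₁]
      group

omit [Fact p.Prime] in
theorem InC.T_mem (l : List I) {f : Γ → A} (hf : InC R l₀ f) : InC R l₀ (T R l f) := by
  induction hlen : l.length using Nat.strong_induction_on generalizing l f with
  | _ q ih =>
    rcases List.eq_nil_or_concat' l with rfl | ⟨l', i, rfl⟩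
    · rw [T_nil]; exact hf
    by_cases h : R.pos (R.ww l' (R.simple i))
    · rw [T_concat h]
      exact InC.S_mem hl₀ hU hK (ih l'.length (by subst hlen; simp) l' hf rfl) i
    · obtain ⟨l'', hlen', k, hk, e⟩ := R.exists_shorter h
      rw [T_congr hk e]
      exact ih l''.length (by subst hlen; simp; omega) l'' (hf.shift hk) rfl

variable (hH : ∀ h ∈ R.H, ∀ k ∈ R.H, h * k = k * h)
include hH

omit [Fact p.Prime] [CharP A p] hU in
/-- The sum over a fundamental root group is invariant along the rank one torus. -/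
theorem S_invariant {f : Γ → A} (hf : InC R l₀ f) (i : I) {h k : Γ} (hh : h ∈ R.H) (hk : k ∈ R.H)
    (hkK : k ∈ K i) : S R i f (R.nw l₀ * (h * k)) = S R i f (R.nw l₀ * h) := by
  classical
  haveI := Fintype.ofFinite (R.U (R.simple i))
  obtain ⟨η, hη, hπ⟩ := hK i
  obtain ⟨π, hπ1, hπη⟩ := hπ k hkK
  have hval : ∀ g ∈ R.H, ∀ a : R.U (R.simple i), f (R.nw l₀ * g * (a : Γ) * (R.n i)⁻¹) =
      if a = 1 then 0 else f (R.nw l₀ * (g * η a)) := by
    intro g hg a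
    split_ifs with ha
    · subst ha
      rw [OneMemClass.coe_one, mul_one]
      exact hf.supp _ (not_inCell_n hl₀ i hg)
    · obtain ⟨-, y, hy, c, hc, e⟩ := hη a a.2 fun h1 => ha (Subtype.ext h1)
      rw [mul_assoc (R.nw l₀ * g), e, show R.nw l₀ * g * (y * η a * c) =
        (R.nw l₀ * (g * y * g⁻¹) * (R.nw l₀)⁻¹) * (R.nw l₀ * (g * η a)) * c by group,
        hf.right _ c (R.U_le_Upos (R.pos_simple i) hc),
        hf.left _ _ (nw_conj_neg hl₀ (R.H_conj_U g hg _ _ hy))]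
  rw [S_eq, S_eq, Finset.sum_congr rfl fun a _ => hval _ (mul_mem hh hk) a,
    Finset.sum_congr rfl fun a _ => hval _ hh a]
  refine Fintype.sum_equiv π _ _ fun a => ?_
  by_cases ha : a = 1
  · rw [if_pos ha, ha, hπ1, if_pos rfl]
  · have hne : π a ≠ 1 := fun e => ha (π.injective (e.trans hπ1.symm))
    rw [if_neg ha, if_neg hne, hπη a ha, mul_assoc h k,
      hH k hk _ (hη a a.2 fun h1 => ha (Subtype.ext h1)).1]

variable (hKH : ∀ i, K i ≤ R.H) (hgen : R.H ≤ ⨆ i, K i)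
include hKH hgen

omit [Fact p.Prime] in
/-- The sum over `U` is constant on `n₀ H`. -/
theorem T_long_const {f : Γ → A} (hf : InC R l₀ f) {h : Γ} (hh : h ∈ R.H) :
    T R l₀ f (R.nw l₀ * h) = T R l₀ f (R.nw l₀) := by
  have key : ∀ i, ∀ k ∈ K i, ∀ g ∈ R.H,
      T R l₀ f (R.nw l₀ * (g * k)) = T R l₀ f (R.nw l₀ * g) := by
    intro j k hk g hg
    obtain ⟨l', -, k₀, hk₀, e⟩ := R.exists_shorter (hl₀ _ (R.pos_simple j))
    simp only [R.nw_append, R.nw_cons, R.nw_nil, mul_one] at e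
    set k₁ := k₀ * (R.nw l' * (R.n j * R.n j)⁻¹ * (R.nw l')⁻¹) with hk₁
    have hk₁H : k₁ ∈ R.H := mul_mem hk₀ (R.nw_conj_H l' (inv_mem (R.n_sq j)))
    have e' : R.nw l₀ = k₁ * R.nw (l' ++ [j]) := by
      simp only [R.nw_append, R.nw_cons, R.nw_nil, mul_one, hk₁]
      rw [show R.nw l₀ = R.nw l₀ * R.n j * (R.n j)⁻¹ by group, e]
      group
    have hp : R.pos (R.ww l' (R.simple j)) := by
      have h1 := R.pos_ww_congr hk₁H e' (R.simple j)
      have h2 := hl₀ _ (R.pos_simple j)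
      rw [h1, R.ww_append, R.ww_cons, R.ww_nil, R.w_simple, R.ww_neg, R.pos_neg, not_not] at h2
      exact h2
    rw [T_congr hk₁H e', T_concat hp]
    exact S_invariant hl₀ hK hH (InC.T_mem hl₀ hU hK l' (hf.shift hk₁H)) j hg (hKH j hk) hk
  have : ∀ k ∈ ⨆ i, K i, k ∈ R.H ∧ ∀ g ∈ R.H,
      T R l₀ f (R.nw l₀ * (g * k)) = T R l₀ f (R.nw l₀ * g) := by
    intro k hk
    refine Subgroup.iSup_induction K
      (C := fun k => k ∈ R.H ∧ ∀ g ∈ R.H, T R l₀ f (R.nw l₀ * (g * k)) = T R l₀ f (R.nw l₀ * g))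
      hk (fun i x hx => ⟨hKH i hx, fun g hg => key i x hx g hg⟩) ⟨one_mem _, fun g _ => by rw [mul_one]⟩
      fun x y hx hy => ⟨mul_mem hx.1 hy.1, fun g hg => ?_⟩
    rw [← mul_assoc g, hy.2 _ (mul_mem hg hx.1), hx.2 g hg]
  simpa using (this h (hgen hh)).2 1 (one_mem _)

/-- The number of `u ∈ U` in a cell condition. -/
theorem cell_count {t₁ t₂ t : Γ} (h1 : t₁ ∈ R.H) (h2 : t₂ ∈ R.H) (ht : t ∈ R.H) :
    ((Nat.card {u : R.Upos // ∃ a ∈ R.Upos, ∃ b ∈ R.Upos,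
        (R.nw l₀ * t₁)⁻¹ * (u : Γ)⁻¹ * (R.nw l₀ * t) = a * (R.nw l₀ * t₂) * b} : ℕ) : A) =
      ((Nat.card {u : R.Upos // ∃ a ∈ R.Upos, ∃ b ∈ R.Upos,
        R.nw l₀ * (u : Γ) * (R.nw l₀)⁻¹ = a * R.nw l₀ * b} : ℕ) : A) := by
  classical
  haveI := Fintype.ofFinite R.Upos
  haveI := Fintype.ofFinite (R.Uminus l₀)
  let δ : Γ → A := fun g => if ∃ a ∈ R.Upos, ∃ b ∈ R.Upos, g = a * R.nw l₀ * b then 1 else 0
  have hδ : InC R l₀ δ := by
    refine ⟨fun g c hc => ?_, fun g c hc => ?_, fun g hg => if_neg ?_⟩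
    · refine if_congr ⟨?_, ?_⟩ rfl rfl
      · rintro ⟨a, ha, b, hb, e⟩
        exact ⟨c⁻¹ * a, mul_mem (inv_mem hc) ha, b, hb, by
          rw [show g = c⁻¹ * (c * g) by group, e]; group⟩
      · rintro ⟨a, ha, b, hb, rfl⟩
        exact ⟨c * a, mul_mem hc ha, b, hb, by group⟩
    · refine if_congr ⟨?_, ?_⟩ rfl rfl
      · rintro ⟨a, ha, b, hb, e⟩
        exact ⟨a, ha, b * c⁻¹, mul_mem hb (inv_mem hc), by
          rw [show g = g * c * c⁻¹ by group, e]; group⟩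
      · rintro ⟨a, ha, b, hb, rfl⟩
        exact ⟨a, ha, b * c, mul_mem hb hc, by group⟩
    · rintro ⟨a, ha, b, hb, rfl⟩
      exact hg ⟨a, ha, 1, one_mem _, b, hb, by group⟩
  have hrhs : ((Nat.card {u : R.Upos // ∃ a ∈ R.Upos, ∃ b ∈ R.Upos,
      R.nw l₀ * (u : Γ) * (R.nw l₀)⁻¹ = a * R.nw l₀ * b} : ℕ) : A) = T R l₀ δ (R.nw l₀) := by
    rw [T_eq, Nat.card_eq_fintype_card, Fintype.card_subtype, ← Finset.sum_boole]
    refine (Finset.sum_bij (fun (u : R.Uminus l₀) _ => (⟨(u : Γ), (Uminus_long hl₀).le u.2⟩ : R.Upos))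
      (fun u _ => Finset.mem_univ _)
      (fun u _ v _ h => Subtype.ext (congrArg (fun x : R.Upos => (x : Γ)) h))
      (fun v _ => ⟨⟨(v : Γ), (Uminus_long hl₀).ge v.2⟩, Finset.mem_univ _, rfl⟩) (fun u _ => ?_)).symm
    rfl
  set x := ((R.nw l₀)⁻¹ * t₁⁻¹ * R.nw l₀) * (R.nw l₀ * R.nw l₀)⁻¹ with hx
  have hxH : x ∈ R.H := mul_mem (R.nw_conj_H' l₀ (inv_mem h1)) (inv_mem (nw_sq_mem hl₀))
  set k := R.nw l₀ * R.nw l₀ * t with hk
  have hkH : k ∈ R.H := mul_mem (nw_sq_mem hl₀) ht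
  set s := t₂ * k⁻¹ with hs
  have hsH : s ∈ R.H := mul_mem h2 (inv_mem hkH)
  set s' := (R.nw l₀)⁻¹ * s⁻¹ * R.nw l₀ with hs'
  have hs'H : s' ∈ R.H := R.nw_conj_H' l₀ (inv_mem hsH)
  rw [hrhs, ← T_long_const hl₀ hU hK hH hKH hgen hδ (mul_mem hxH hs'H), T_eq,
    Nat.card_eq_fintype_card, Fintype.card_subtype, ← Finset.sum_boole]
  refine (Finset.sum_bij (fun (u : R.Uminus l₀) _ => (⟨s' * (u : Γ)⁻¹ * s'⁻¹,
      Upos_conj_H hs'H (inv_mem ((Uminus_long hl₀).le u.2))⟩ : R.Upos))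
    (fun u _ => Finset.mem_univ _)
    (fun u _ v _ h => Subtype.ext (inv_injective (mul_left_cancel (mul_right_cancel
      (congrArg (fun x : R.Upos => (x : Γ)) h)))))
    (fun v _ => ⟨⟨s'⁻¹ * (v : Γ)⁻¹ * s',
      (Uminus_long hl₀).ge (Upos_conj_H' hs'H (inv_mem v.2))⟩, Finset.mem_univ _,
      Subtype.ext (by simp [mul_assoc])⟩) (fun u _ => ?_)).symm
  simp only [δ]
  have hE : (R.nw l₀ * t₁)⁻¹ * (s' * (u : Γ)⁻¹ * s'⁻¹)⁻¹ * (R.nw l₀ * t) =
      R.nw l₀ * (x * s') * (u : Γ) * (R.nw l₀)⁻¹ * (s * k) := by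
    rw [hx, hs', hk]; group
  have hsk : s * k = t₂ := by rw [hs, inv_mul_cancel_right]
  rw [hE, hsk]
  set z := R.nw l₀ * (x * s') * (u : Γ) * (R.nw l₀)⁻¹
  refine if_congr ⟨?_, ?_⟩ rfl rfl
  · rintro ⟨a, ha, b, hb, e⟩
    exact ⟨a, ha, t₂⁻¹ * b * t₂, Upos_conj_H' h2 hb, by rw [e]; group⟩
  · rintro ⟨a, ha, b, hb, e⟩
    exact ⟨a, ha, t₂ * b * t₂⁻¹, Upos_conj_H h2 hb, by
      rw [show z = z * t₂ * t₂⁻¹ by group, e]; group⟩

end operators

end Cfsg.Agent.ChevBlocks
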