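import Cfsg.Agent.Lib.ChevBlocks.Shape
import Cfsg.Agent.Lib.ChevBlocks.Cell
import Cfsg.Agent.Lib.ChevBN.Steinberg
import Cfsg.Agent.Lib.ChevOrder.CardU
import Cfsg.Agent.Lib.ChevOrder.Assembly
import Cfsg.Agent.Lib.ChevSt.Centre
import Cfsg.Agent.Lib.SLBlocks.Abstract
import Cfsg.Agent.Lib.Blocks.Defect
import Cfsg.Agent.Lib.Blocks.Induced
import Cfsg.Agent.Lib.BlockDefect.RegInner
import Cfsg.Agent.Lib.BlocksNormal.SylowIntersection
import Cfsg.Agent.Lib.BlocksNormal.Count
import Cfsg.Agent.Lib.BrauerPairs.Residue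
import Cfsg.Agent.Lib.ModRep.Basic

/-!
# The blocks of the adjoint Chevalley groups with trivial centre, in their own characteristic

`card_blocks` : the group `D.group F` has exactly two `p`-blocks (`Good D`, `Roots D M d`, `CorootOK D`,
`AdjOK D`, connected diagram, `F` finite of characteristic `p`).
-/

set_option autoImplicit false

namespace Cfsg.Agent.ChevBlocks

open Cfsg Cfsg.Lie Cfsg.Lie.ChevalleyDatum Cfsg.Agent.Chev Cfsg.Agent.ChevSt Cfsg.Agent.ChevBN
open Cfsg.Agent.RGD Cfsg.Agent.RGD.RootData Blocks BrauerPairs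

variable {D : ChevalleyDatum} {M : List (List ℤ)} {d : ℤ} {F : Type*} [Field F] [Finite F]
  (hD : Good D) (hR : Roots D M d) {p : ℕ} [Fact p.Prime] [CharP F p]

local notation "RR" => chevRGD hD hR F

include hD hR

theorem isPGroup_U : IsPGroup p (D.posUnipotent F) := by
  classical
  haveI := Fintype.ofFinite F
  obtain ⟨n, -, hn⟩ := FiniteField.card F p
  exact IsPGroup.of_card (n := n * (D.nroots / 2))
    (by rw [ChevOrder.card_posUnipotent hD, Nat.card_eq_fintype_card, hn, pow_mul])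

omit hR in
theorem not_dvd_card_H : ¬ p ∣ Nat.card (D.diagonalSubgroup F) := by
  classical
  haveI := Fintype.ofFinite F
  intro h
  rw [← ChevOrder.torusHom_range hD] at h
  have h1 := h.trans (Subgroup.card_range_dvd (ChevOrder.torusHom D F))
  rw [Nat.card_pi] at h1
  obtain ⟨i, -, hi⟩ := (Nat.Prime.prime (Fact.out : p.Prime)).exists_mem_finset_dvd h1
  rw [Nat.card_eq_fintype_card, Fintype.card_units] at hi
  obtain ⟨n, hp, hn⟩ := FiniteField.card F p
  have h2 : p ∣ Fintype.card F := hn ▸ dvd_pow_self p n.ne_zero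
  have h3 : p ∣ 1 := by
    have := Nat.dvd_sub h2 hi
    rwa [Nat.sub_sub_self Fintype.card_pos] at this
  exact hp.one_lt.ne' (Nat.dvd_one.1 h3)

theorem U_le_group : D.posUnipotent F ≤ D.group F :=
  (le_sup_left : D.posUnipotent F ≤ D.borelSubgroup F).trans (borel_le_group hD hR)

/-- An element of the group carrying `U` into itself lies in `B`. -/
theorem mem_B_of_normalizes {x : GL D.Idx F} (hx : x ∈ D.group F)
    (h : ∀ z ∈ D.posUnipotent F, x * z * x⁻¹ ∈ D.borelSubgroup F) : x ∈ (RR).B := by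
  let R := RR
  rw [← chev_G hD hR] at hx
  rw [← chev_Upos hD hR, ← chev_B hD hR] at h
  obtain ⟨c, hc, l, u, hu, rfl⟩ := R.exists_normalForm hx
  have hu' := R.Uminus_le_Upos l hu
  refine mul_mem (mul_mem hc (R.H_le_B (R.mem_H_of_pos fun r hr => ?_))) (R.Upos_le_B hu')
  rw [← R.U_le_B_iff, ← R.map_conj_U]
  rintro _ ⟨z, hz, rfl⟩
  have h1 := h (u⁻¹ * z * u) (mul_mem (mul_mem (inv_mem hu') (R.U_le_Upos hr hz)) hu')
  have h2 := mul_mem (mul_mem (inv_mem hc) h1) hc
  convert h2 using 1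
  show R.nw l * z * (R.nw l)⁻¹ = _
  group

/-- `U` is a Sylow `p`-subgroup. -/
theorem not_dvd_index : ¬ p ∣ ((D.posUnipotent F).subgroupOf (D.group F)).index := by
  classical
  have hUB : D.posUnipotent F ≤ D.borelSubgroup F := le_sup_left
  set U' := (D.posUnipotent F).subgroupOf (D.group F)
  set B' := (D.borelSubgroup F).subgroupOf (D.group F)
  have hle : U' ≤ B' := fun g hg => hUB hg
  have hU' : IsPGroup p U' :=
    (isPGroup_U hD hR).of_equiv (Subgroup.subgroupOfEquivOfLe (U_le_group hD hR)).symm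
  rw [← Subgroup.relIndex_mul_index hle]
  intro h
  rcases (Fact.out : p.Prime).dvd_mul.1 h with h | h
  · have e : U'.relIndex B' * Nat.card U' = Nat.card B' := by
      rw [Subgroup.relIndex, ← Nat.card_congr (Subgroup.subgroupOfEquivOfLe hle).toEquiv,
        Subgroup.index_mul_card]
    rw [Nat.card_congr (Subgroup.subgroupOfEquivOfLe (U_le_group hD hR)).toEquiv,
      Nat.card_congr (Subgroup.subgroupOfEquivOfLe (borel_le_group hD hR)).toEquiv,
      ChevOrder.card_borel hD, mul_comm (Nat.card _) (Nat.card (D.diagonalSubgroup F))] at e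
    exact not_dvd_card_H hD (F := F) (p := p) (Nat.eq_of_mul_eq_mul_right Nat.card_pos e ▸ h)
  · have hfix : ∀ q : ↥(D.group F) ⧸ B', q ∈ MulAction.fixedPoints U' (↥(D.group F) ⧸ B') ↔ q = ((1 : ↥(D.group F)) : ↥(D.group F) ⧸ B') := by
      intro q
      induction q using QuotientGroup.induction_on with
      | H g =>
        constructor
        · intro hq
          refine QuotientGroup.eq.2 ?_
          rw [mul_one]
          refine B'.inv_mem ?_
          rw [Subgroup.mem_subgroupOf, ← chev_B hD hR]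
          have hgi := mem_B_of_normalizes hD hR (x := ((g : GL D.Idx F))⁻¹) (inv_mem g.2) fun z hz => by
            have h1 := hq ⟨⟨z, U_le_group hD hR hz⟩, hz⟩
            change ((⟨z, U_le_group hD hR hz⟩ * g : ↥(D.group F)) : ↥(D.group F) ⧸ B') = (g : ↥(D.group F) ⧸ B') at h1
            rw [eq_comm, QuotientGroup.eq, Subgroup.mem_subgroupOf] at h1
            simpa [mul_assoc] using h1
          simpa using inv_mem hgi
        · intro e
          rw [e]
          rintro ⟨v, hv⟩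
          show ((v * 1 : ↥(D.group F)) : ↥(D.group F) ⧸ B') = ((1 : ↥(D.group F)) : ↥(D.group F) ⧸ B')
          rw [QuotientGroup.eq]
          simpa using inv_mem (hle hv)
    have h2 : Nat.card (MulAction.fixedPoints U' (↥(D.group F) ⧸ B')) = 1 := by
      rw [Nat.card_eq_one_iff_unique]
      exact ⟨⟨fun a b => Subtype.ext (((hfix _).1 a.2).trans ((hfix _).1 b.2).symm)⟩,
        ⟨⟨_, (hfix _).2 rfl⟩⟩⟩
    have h1 := hU'.card_modEq_card_fixedPoints (↥(D.group F) ⧸ B')
    rw [h2, ← Subgroup.index_eq_card] at h1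
    have h3 := h1.symm.trans (Nat.modEq_zero_iff_dvd.2 h)
    exact (Fact.out : p.Prime).one_lt.ne' (Nat.dvd_one.1 (Nat.modEq_zero_iff_dvd.1 h3))

/-- `U` as a Sylow subgroup. -/
noncomputable def sylowU : Sylow p ↥(D.group F) :=
  ((isPGroup_U hD hR).of_equiv (Subgroup.subgroupOfEquivOfLe (U_le_group hD hR)).symm).toSylow
    (not_dvd_index hD hR)

theorem mem_sylowU {g : ↥(D.group F)} :
    g ∈ (sylowU hD hR (p := p) (F := F) : Subgroup ↥(D.group F)) ↔ (g : GL D.Idx F) ∈ D.posUnipotent F := Iff.rfl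

omit hR in
theorem xg_inj {r : ℕ} (hr : r < D.nroots) {t t' : F} (e : xg hD F r t = xg hD F r t') : t = t' := by
  have h : xg hD F r (t + -t') = 1 := by
    rw [← xg_add hD hr, ← xg_inv, e, mul_inv_cancel]
  exact eq_of_sub_eq_zero (sub_eq_add_neg t t' ▸ xg_eq_one hD hr h)

variable {N : Ideal AlgInt}

/-- A `p`-regular element with full centraliser is trivial. -/
theorem eq_one_of_full (hC : CorootOK D) {x : ↥(D.group F)} (hx : ¬ p ∣ orderOf x)
    (hfull : (Nat.card ↥(D.group F)).factorization p ≤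
      (Nat.card (Subgroup.centralizer ({x} : Set ↥(D.group F)))).factorization p) : x = 1 := by
  classical
  let R := RR
  obtain ⟨Q, hQ⟩ := sylowIn_exists p (Subgroup.centralizer ({x} : Set ↥(D.group F)))
  have hQc := sylowIn_card hQ
  rw [le_antisymm ((Nat.factorization_le_iff_dvd Nat.card_pos.ne' Nat.card_pos.ne').2
    (Subgroup.card_subgroup_dvd_card _) p) hfull] at hQc
  let S : Sylow p ↥(D.group F) := Sylow.ofCard Q hQc
  obtain ⟨c, hc⟩ := MulAction.exists_smul_eq ↥(D.group F) S (sylowU hD hR (p := p) (F := F))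
  set y := c * x * c⁻¹ with hy
  have hcomm : ∀ z : ↥(D.group F), (z : GL D.Idx F) ∈ D.posUnipotent F → y * z = z * y := by
    intro z hz
    have hzS : z ∈ (c • S : Sylow p ↥(D.group F)) := hc.symm ▸ hz
    rw [← SetLike.mem_coe, Sylow.coe_smul] at hzS
    obtain ⟨q, hq, rfl⟩ := hzS
    have h1 := Subgroup.mem_centralizer_iff.1 (sylowIn_le hQ hq) x rfl
    show c * x * c⁻¹ * (c * q * c⁻¹) = c * q * c⁻¹ * (c * x * c⁻¹)
    calc c * x * c⁻¹ * (c * q * c⁻¹) = c * (x * q) * c⁻¹ := by group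
      _ = c * (q * x) * c⁻¹ := by rw [h1]
      _ = _ := by group
  have hcomm' : ∀ z ∈ D.posUnipotent F, (y : GL D.Idx F) * z = z * y := fun z hz =>
    congrArg Subtype.val (hcomm ⟨z, U_le_group hD hR hz⟩ hz)
  obtain ⟨a, ha, h, hh, e⟩ := R.exists_B (mem_B_of_normalizes hD hR y.2 fun z hz => by
    rw [hcomm' z hz, mul_inv_cancel_right]
    exact Subgroup.mem_sup_left hz)
  have ha' : a ∈ D.posUnipotent F := by rw [← chev_Upos hD hR]; exact ha
  have h1 : h = 1 := eq_one_of_commute_pos hD hR hh fun r hr => by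
    refine toral_fix hD hR hC ha' hr hh ?_
    have h2 := hcomm' (xg hD F r 1) (Subgroup.subset_closure ⟨r, 1, hr, coe_xg hD _ _⟩)
    rw [e] at h2
    rw [show a * (h * xg hD F r 1 * h⁻¹) * a⁻¹ = a * h * xg hD F r 1 * (a * h)⁻¹ by group, h2,
      mul_inv_cancel_right]
  rw [h1, mul_one] at e
  obtain ⟨j, hj⟩ := (sylowU hD hR (p := p) (F := F)).isPGroup'
    ⟨y, by rw [mem_sylowU, e]; exact ha'⟩
  have hj' : y ^ p ^ j = 1 := by simpa using congrArg Subtype.val hj
  obtain ⟨k, -, hk⟩ := (Nat.dvd_prime_pow (Fact.out : p.Prime)).1 (orderOf_dvd_of_pow_eq_one hj')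
  have hord : orderOf y = orderOf x := by
    rw [hy, show c * x * c⁻¹ = MulAut.conj c x from rfl, MulEquiv.orderOf_eq]
  rcases Nat.eq_zero_or_pos k with rfl | hk0
  · rw [pow_zero, hord, orderOf_eq_one_iff] at hk
    exact hk
  · exact absurd (hord ▸ hk ▸ dvd_pow_self p hk0.ne') hx

/-- A block has defect zero or full defect. -/
theorem defect_dichotomy (hC : CorootOK D) (hA : AdjOK D) {ord : List ℕ} (hord : ConnOK D ord)
    (hN : IsPModular p N) {B : Set (IrrCharacter ↥(D.group F))} (hB : IsPBlock N B) :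
    blockDefect p B = 0 ∨ blockDefect p B = (Nat.card ↥(D.group F)).factorization p := by
  classical
  haveI : Fintype ↥(D.group F) := Fintype.ofFinite _
  let P := sylowU hD hR (p := p) (F := F)
  let Def : Subgroup (GL D.Idx F) → Prop := fun E =>
    ∃ E₀ : Subgroup ↥(D.group F), IsDefectGroup p N B E₀ ∧ E = E₀.map (D.group F).subtype
  have hT : Tame (D := D) Def := by
    refine ⟨?_, ?_⟩
    · rintro _ ⟨E₀, hE₀, rfl⟩ g hg
      refine ⟨conjSub ⟨g, hg⟩ E₀, isDefectGroup_conjSub hN hE₀ _, ?_⟩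
      rw [conjSub, Subgroup.map_map, Subgroup.map_map]
      rfl
    · rintro _ ⟨E₀, hE₀, rfl⟩ hle
      obtain ⟨x, -, hxD, hPx⟩ := BlocksNormal.defectGroup_eq_inter hN hB hE₀ P
        fun z hz => hle ⟨z, hz, rfl⟩
      refine ⟨x, x.2, ?_, fun z => ⟨?_, ?_⟩⟩
      · rintro _ ⟨z, hz, rfl⟩
        exact congrArg Subtype.val (Subgroup.mem_centralizer_iff.1 (sylowIn_le hxD hz) x rfl)
      · rintro ⟨z, hz, rfl⟩
        rw [← hPx, SetLike.mem_coe, Subgroup.mem_inf, mem_conjSub] at hz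
        exact hz
      · rintro ⟨h1, h2⟩
        refine ⟨⟨z, U_le_group hD hR h1⟩, ?_, rfl⟩
        rw [← hPx]
        exact Subgroup.mem_inf.2 ⟨h1, mem_conjSub.2 h2⟩
  obtain ⟨E₀, hE₀⟩ := exists_isDefectGroup hN hB
  obtain ⟨Q, hQ⟩ := (isPGroup_defectGroup hN hE₀).exists_le_sylow
  obtain ⟨c, hc⟩ := MulAction.exists_smul_eq ↥(D.group F) Q P
  have hE₁ : conjSub c E₀ ≤ (P : Subgroup ↥(D.group F)) := by
    rintro _ ⟨z, hz, rfl⟩
    rw [← hc]
    show MulAut.conj c z ∈ ((c • Q : Sylow p ↥(D.group F)) : Set ↥(D.group F))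
    rw [Sylow.coe_smul]
    exact ⟨z, hQ hz, rfl⟩
  have hd1 := isDefectGroup_conjSub hN hE₀ c
  have hcard := card_defectGroup hN hB hd1
  rcases trivial_or_full hD hR hC hT hA hord (E := (conjSub c E₀).map (D.group F).subtype)
      ⟨_, hd1, rfl⟩ (by rintro _ ⟨z, hz, rfl⟩; exact hE₁ hz) with h | h
  · left
    rw [← Subgroup.card_map_of_injective (D.group F).subtype_injective, h, Subgroup.card_bot] at hcard
    by_contra h0
    exact (Nat.one_lt_pow h0 (Fact.out : p.Prime).one_lt).ne hcard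
  · right
    have hPE : conjSub c E₀ = (P : Subgroup ↥(D.group F)) := le_antisymm hE₁ fun z hz => by
      obtain ⟨w, hw, e⟩ := h ((mem_sylowU hD hR).1 hz)
      rwa [← Subtype.ext e]
    rw [hPE, P.card_eq_multiplicity] at hcard
    exact (Nat.pow_right_injective (Fact.out : p.Prime).two_le hcard).symm

theorem red_idem (hN : IsPModular p N) [Fintype ↥(D.group F)]
    {B B' : Set (IrrCharacter ↥(D.group F))} (hB : IsPBlock N B) (hB' : IsPBlock N B') (x : ↥(D.group F)) :
    ∑ y, res N (blockCoeff B y) * res N (blockCoeff B' (y⁻¹ * x)) =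
      res N (ofOmega (blockInd B * blockInd B') x) := by
  rw [ofOmega_mul, ← blockCoeff_eq_ofOmega, ← blockCoeff_eq_ofOmega, ← coeff_red (M := N),
    red_conv hN (memR_blockCoeff hN hB) (memR_blockCoeff hN hB'), coeff_mul_eq_sum]
  simp only [coeff_red]

/-- The rank one tori. -/
noncomputable def K (i : Fin D.rank) : Subgroup (GL D.Idx F) :=
  ((ChevOrder.torusHom D F).comp (MonoidHom.mulSingle (fun _ => Fˣ) i)).range

omit [Finite F] [Fact p.Prime] [CharP F p] in
theorem hg_eq_torus (i : Fin D.rank) {t : F} (ht : t ≠ 0) :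
    hg hD F (D.simple i.val) t = ChevOrder.torusHom D F (Pi.mulSingle i (Units.mk0 t ht)) := by
  apply Units.ext
  rw [coe_hg, ChevOrder.coe_torusHom, hMat_eq_diag hD (hD.simple_lt i.val i.isLt) ht]
  congr 1
  ext1 s
  rw [pairing_simple hD i.isLt, ChevOrder.chi, Finset.prod_eq_single i]
  · simp
  · intro j _ hj; simp [Pi.mulSingle_eq_of_ne hj]
  · simp

omit [Fact p.Prime] [CharP F p] in
theorem rankTorus_strong (i : Fin D.rank) : ∃ η : GL D.Idx F → GL D.Idx F,
    (∀ a ∈ (RR).U ((RR).simple i), a ≠ 1 → η a ∈ K (D := D) (F := F) i ∧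
      ∃ y ∈ (RR).U ((RR).neg ((RR).simple i)), ∃ c ∈ (RR).U ((RR).simple i),
        a * ((RR).n i)⁻¹ = y * η a * c) ∧
    ∀ k ∈ K (D := D) (F := F) i, ∃ π : (RR).U ((RR).simple i) ≃ (RR).U ((RR).simple i), π 1 = 1 ∧
      ∀ a : (RR).U ((RR).simple i), a ≠ 1 → η (π a : GL D.Idx F) = η (a : GL D.Idx F) * k := by
  classical
  let R := RR
  set r := D.simple i.val
  have hr : r < D.nroots := hD.simple_lt i.val i.isLt
  let η : GL D.Idx F → GL D.Idx F := fun a =>
    if h : ∃ t, a = xg hD F r t then hg hD F r h.choose else 1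
  have hη : ∀ t, η (xg hD F r t) = hg hD F r t := fun t => by
    have h : ∃ t', xg hD F r t = xg hD F r t' := ⟨t, rfl⟩
    show (if h : ∃ t', xg hD F r t = xg hD F r t' then hg hD F r h.choose else 1) = _
    rw [dif_pos h, ← xg_inj hD hr h.choose_spec]
  refine ⟨η, fun a ha ha1 => ?_, ?_⟩
  · obtain ⟨t, rfl⟩ := (mem_rootSubgroup hD _).1 ha
    have ht : t ≠ 0 := fun h => ha1 (by rw [h, xg_zero])
    have hH : hg hD F r t ∈ R.H := Subgroup.subset_closure ⟨r, t, hr, ht, coe_hg hD r t⟩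
    rw [show η (xg hD F (R.simple i).val t) = hg hD F r t from hη t]
    refine ⟨⟨Units.mk0 t ht, (hg_eq_torus hD hR i ht).symm⟩, hg hD F r t * (R.n i * xg hD F r (-t) * (R.n i)⁻¹) * (hg hD F r t)⁻¹,
      R.H_conj_U _ hH _ _ (R.conj_n_simple (xg_mem_rootSubgroup hD r _)),
      R.n i * xg hD F (D.neg r) t⁻¹ * (R.n i)⁻¹, ?_, ?_⟩
    · have h1 := R.n_conj_U i (R.neg (R.simple i)) (xg hD F (D.neg r) t⁻¹) (xg_mem_rootSubgroup hD _ _)
      rwa [R.w_neg, R.w_simple, R.neg_neg] at h1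
    · show xg hD F r t * (ng hD F r 1)⁻¹ = _
      show _ = hg hD F r t * (ng hD F r 1 * xg hD F r (-t) * (ng hD F r 1)⁻¹) * (hg hD F r t)⁻¹ *
        hg hD F r t * (ng hD F r 1 * xg hD F (D.neg r) t⁻¹ * (ng hD F r 1)⁻¹)
      rw [hg, ← ng_inv, show ng hD F r t = xg hD F r t * xg hD F (D.neg r) (-t⁻¹) * xg hD F r t from rfl,
        ← xg_inv hD r t, show xg hD F (D.neg r) (-t⁻¹) = (xg hD F (D.neg r) t⁻¹)⁻¹ from
          (xg_inv hD (D.neg r) t⁻¹).symm]
      group
  · rintro _ ⟨s, rfl⟩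
    let e : F ≃ R.U (R.simple i) := Equiv.ofBijective
      (fun t => ⟨xg hD F r t, xg_mem_rootSubgroup hD r t⟩)
      ⟨fun t t' h => xg_inj hD hr (congrArg Subtype.val h), fun a => by
        obtain ⟨t, ht⟩ := (mem_rootSubgroup hD _).1 a.2
        exact ⟨t, Subtype.ext ht.symm⟩⟩
    refine ⟨e.symm.trans ((Equiv.mulRight₀ (s : F) s.ne_zero).trans e), ?_, fun a ha => ?_⟩
    · have h0 : e 0 = 1 := Subtype.ext (xg_zero hD r)
      simp [← h0]
    · obtain ⟨t, rfl⟩ := e.surjective a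
      have ht : t ≠ 0 := fun h => ha (by rw [h]; exact Subtype.ext (xg_zero hD r))
      rw [Equiv.trans_apply, Equiv.trans_apply, Equiv.symm_apply_apply]
      show η (xg hD F r (t * s)) = η (xg hD F r t) * _
      rw [hη, hη, hg_eq_torus hD hR i ht, hg_eq_torus hD hR i (mul_ne_zero ht s.ne_zero),
        MonoidHom.comp_apply, MonoidHom.mulSingle_apply, ← map_mul, ← Pi.mulSingle_mul]
      congr 2
      exact Units.ext rfl

theorem rankTorus (i : Fin D.rank) : RankTorus RR i (K (D := D) (F := F) i) := by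
  obtain ⟨η, h1, h2⟩ := rankTorus_strong hD hR (F := F) i
  refine ⟨η, fun a ha ha1 => ⟨?_, (h1 a ha ha1).2⟩, h2⟩
  obtain ⟨s, hs⟩ := (h1 a ha ha1).1
  show η a ∈ D.diagonalSubgroup F
  rw [← ChevOrder.torusHom_range hD, ← hs]
  exact ⟨_, rfl⟩

theorem defect_zero_unique (hN : IsPModular p N) {B B' : Set (IrrCharacter ↥(D.group F))} (hB : IsPBlock N B)
    (hB0 : blockDefect p B = 0) (hB' : IsPBlock N B') (hB0' : blockDefect p B' = 0) : B = B' := by
  classical
  by_contra hne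
  let R := RR
  letI := ModRep.resField hN
  haveI := res_charP hN
  haveI : Fintype ↥(D.group F) := Fintype.ofFinite _
  have hp := (Fact.out : p.Prime)
  obtain ⟨l₀, hl₀⟩ := exists_long hD hR (F := F)
  let P := sylowU hD hR (p := p) (F := F)
  haveI : Fintype {t : ↥(D.group F) // (t : GL D.Idx F) ∈ D.diagonalSubgroup F} := Fintype.ofFinite _
  have hn₀ : R.nw l₀ ∈ D.group F := by rw [← chev_G hD hR]; exact R.N_le_G (R.nw_mem_N _)
  let μ : {t : ↥(D.group F) // (t : GL D.Idx F) ∈ D.diagonalSubgroup F} → ↥(D.group F) := fun t => ⟨R.nw l₀, hn₀⟩ * t.1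
  have hmemU : ∀ {z : ↥(D.group F)}, z ∈ (P : Subgroup ↥(D.group F)) ↔ (z : GL D.Idx F) ∈ R.Upos := fun {z} => by
    rw [mem_sylowU, chev_Upos hD hR]
  have hLong : ∀ l, (∀ j, ¬ R.pos (R.ww l (R.simple j))) → ∀ r, R.pos r → ¬ R.pos (R.ww l r) := by
    intro l hl r hr hpos
    obtain ⟨g, hg, e⟩ := lin_comp hD hR F l (isLin_ht hD M)
    have h1 := lin_neg hD hR hg (fun i hi => by
      have h3 := hR.ht_pos _ (hD.neg_lt _ (R.ww l ⟨D.simple i, hD.simple_lt i hi⟩).isLt)
        ((pos_or_neg hD (R.ww l _).isLt).2 (hl ⟨i, hi⟩))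
      rw [(isLin_ht hD M).neg _ (R.ww l _).isLt] at h3
      rw [e ⟨D.simple i, hD.simple_lt i hi⟩]
      exact neg_pos.1 h3) r.isLt hr
    have h2 := hR.ht_pos _ (R.ww l r).isLt hpos
    rw [e r] at h1
    exact absurd h2 (not_lt.2 h1.le)
  have hpU : ∀ i, p ∣ Nat.card (R.U (R.simple i)) := by
    intro i
    have hp' : IsPGroup p (R.U (R.simple i)) := (isPGroup_U hD hR).to_le (by
      rw [← chev_Upos hD hR]; exact R.U_le_Upos (R.pos_simple i))
    obtain ⟨k, hk⟩ := IsPGroup.iff_card.1 hp'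
    rcases Nat.eq_zero_or_pos k with rfl | hk0
    · exact absurd (Subgroup.card_eq_one.1 (by rw [hk, pow_zero])) (R.U_ne_bot _)
    · rw [hk]; exact dvd_pow_self p hk0.ne'
  have hHc : ∀ h ∈ R.H, ∀ k ∈ R.H, h * k = k * h := fun h hh k hk => diag_commute hD hh hk
  have hKH : ∀ i, K (D := D) (F := F) i ≤ R.H := by
    rintro i _ ⟨s, rfl⟩
    show _ ∈ D.diagonalSubgroup F
    rw [← ChevOrder.torusHom_range hD]
    exact ⟨_, rfl⟩
  have hgen : R.H ≤ ⨆ i, K (D := D) (F := F) i := by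
    show D.diagonalSubgroup F ≤ _
    rw [← ChevOrder.torusHom_range hD]
    rintro _ ⟨c, rfl⟩
    exact Subgroup.pi_mem_of_mulSingle_mem (H := (⨆ i, K (D := D) (F := F) i).comap (ChevOrder.torusHom D F)) c
      fun i => Subgroup.mem_iSup_of_mem i ⟨c i, rfl⟩
  have hcls : ∀ (C : Set (IrrCharacter ↥(D.group F))) (a x : ↥(D.group F)),
      res N (blockCoeff C (a * x * a⁻¹)) = res N (blockCoeff C x) := fun C a x => by
    rw [classFunction_eq_of_isConj (Blocks.isClassFunction_blockCoeff C)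
      (isConj_iff.2 ⟨a, rfl⟩ : IsConj x (a * x * a⁻¹))]
  have hvan : ∀ {C : Set (IrrCharacter ↥(D.group F))}, IsPBlock N C → blockDefect p C = 0 →
      ∀ x v : ↥(D.group F), v ∈ (P : Subgroup ↥(D.group F)) → v ≠ 1 → v * x = x * v → res N (blockCoeff C x) = 0 := by
    intro C hC hC0 x v hv hv1 hvx
    rw [res_eq_zero_iff hN (memR_blockCoeff hN hC x)]
    refine BlockDefect.memI_blockCoeff_of_lt hN hC (e := (Nat.card ↥(D.group F)).factorization p) (k := 1)
      (fun ψ hψ => ?_) ?_ (by omega)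
    · rw [hp.pow_dvd_iff_le_factorization (charDegree_pos ψ).ne']
      have h1 : sInf ((fun χ : IrrCharacter ↥(D.group F) => (charDegree (χ : ↥(D.group F) → ℂ)).factorization p) '' C) ≤
          (charDegree (ψ : ↥(D.group F) → ℂ)).factorization p := Nat.sInf_le ⟨ψ, hψ, rfl⟩
      rw [blockDefect] at hC0
      omega
    · rw [pow_one]
      obtain ⟨i, hi⟩ := P.isPGroup' ⟨v, hv⟩
      have hi' : v ^ p ^ i = 1 := by simpa using congrArg Subtype.val hi
      obtain ⟨j, -, hj⟩ := (Nat.dvd_prime_pow hp).1 (orderOf_dvd_of_pow_eq_one hi')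
      have hj0 : j ≠ 0 := fun e => hv1 (orderOf_eq_one_iff.1 (by rw [hj, e, pow_zero]))
      exact (dvd_pow_self p hj0).trans (hj ▸ Subgroup.orderOf_dvd_natCard _
        (mem_centralizer_singleton.2 hvx))
  have hne0 : ∀ {C : Set (IrrCharacter ↥(D.group F))}, IsPBlock N C →
      (fun x => res N (blockCoeff C x)) ≠ 0 := by
    intro C hC h
    obtain ⟨g, hg⟩ := exists_isDefectClass hN hC
    exact hg.2.1 ((res_eq_zero_iff hN (memR_blockCoeff hN hC g)).1 (congrFun h g))
  refine SLBlocks.false_of_bigCell (R := Res N) (p := p) (P : Subgroup ↥(D.group F)) P.isPGroup' μ ?_ ?_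
    ((Nat.card {u : R.Upos // ∃ a ∈ R.Upos, ∃ b ∈ R.Upos,
      R.nw l₀ * (u : GL D.Idx F) * (R.nw l₀)⁻¹ = a * R.nw l₀ * b} : ℕ) : Res N)
    (fun t₁ t₂ t => ?_) (hcls B) (hcls B') (hvan hB hB0) (hvan hB' hB0') (fun x => ?_) (fun x => ?_)
    (fun x => ?_) (hne0 hB) (hne0 hB')
  · intro g hg
    obtain ⟨v, hv, hv1, hgv⟩ := exists_rel (R := R) hl₀ hLong
      (g := (g : GL D.Idx F)) (by rw [chev_G hD hR]; exact g.2) (by
        rintro ⟨a, ha, h, hh, b, hb, e⟩
        have hUG : ∀ {z}, z ∈ R.Upos → z ∈ D.group F := fun {z} hz => by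
          rw [← chev_G hD hR]; exact R.B_le_G (R.Upos_le_B hz)
        exact hg ⟨⟨h, by rw [← chev_G hD hR]; exact R.B_le_G (R.H_le_B hh)⟩, hh⟩ ⟨a, hUG ha⟩
          (hmemU.2 ha) ⟨b, hUG hb⟩ (hmemU.2 hb) (Subtype.ext (by
            show (g : GL D.Idx F) = a * (R.nw l₀ * h) * b
            rw [e, mul_assoc a])))
    refine ⟨⟨v, by rw [← chev_G hD hR]; exact R.B_le_G (R.Upos_le_B hv)⟩, hmemU.2 hv,
      fun e => hv1 (congrArg Subtype.val e), hmemU.2 hgv⟩
  · intro t t' u hu u' hu' w hw e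
    obtain ⟨e1, e2⟩ := cell_unique (R := R) hl₀ (hmemU.1 hu) (hmemU.1 hu') (hmemU.1 hw) t.2 t'.2
      (congrArg Subtype.val e)
    exact ⟨Subtype.ext e1, Subtype.ext (Subtype.ext e2)⟩
  · rw [← cell_count (R := R) (p := p) (A := Res N) hl₀ hpU (rankTorus hD hR) hHc hKH hgen t₁.2 t₂.2 t.2]
    congr 1
    let φ : (P : Subgroup ↥(D.group F)) ≃ R.Upos :=
      { toFun := fun u => ⟨((u : ↥(D.group F)) : GL D.Idx F), hmemU.1 u.2⟩
        invFun := fun u => ⟨⟨u, by rw [← chev_G hD hR]; exact R.B_le_G (R.Upos_le_B u.2)⟩, hmemU.2 u.2⟩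
        left_inv := fun _ => rfl
        right_inv := fun _ => rfl }
    refine Nat.card_congr (φ.subtypeEquiv fun u => ⟨?_, ?_⟩)
    · rintro ⟨a, ha, b, hb, e⟩
      exact ⟨a, hmemU.1 ha, b, hmemU.1 hb, congrArg Subtype.val e⟩
    · rintro ⟨a, ha, b, hb, e⟩
      exact ⟨⟨a, by rw [← chev_G hD hR]; exact R.B_le_G (R.Upos_le_B ha)⟩, hmemU.2 ha,
        ⟨b, by rw [← chev_G hD hR]; exact R.B_le_G (R.Upos_le_B hb)⟩, hmemU.2 hb, Subtype.ext e⟩
  · rw [red_idem hD hR hN hB hB, blockInd_mul_self, ← blockCoeff_eq_ofOmega]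
  · rw [red_idem hD hR hN hB' hB', blockInd_mul_self, ← blockCoeff_eq_ofOmega]
  · rw [red_idem hD hR hN hB hB', show blockInd B * blockInd B' = (0 : IrrCharacter ↥(D.group F) → ℂ) from
      funext fun χ => by
        by_cases h : χ ∈ B
        · rw [Pi.mul_apply, blockInd_of_notMem fun h' => hne (isPBlock_eq_of_mem hN hB hB' h h'),
            mul_zero, Pi.zero_apply]
        · rw [Pi.mul_apply, blockInd_of_notMem h, zero_mul, Pi.zero_apply], ofOmega_zero,
      Pi.zero_apply, res_zero hN]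

/-- There are exactly two blocks. -/
theorem card_blocks (hC : CorootOK D) (hA : AdjOK D) {ord : List ℕ} (hord : ConnOK D ord)
    (hrank : 0 < D.rank) (hN : IsPModular p N) :
    Nat.card {B : Set (IrrCharacter ↥(D.group F)) // IsPBlock N B} = 2 := by
  classical
  have hp := (Fact.out : p.Prime)
  set a := (Nat.card ↥(D.group F)).factorization p with ha
  let P := sylowU hD hR (p := p) (F := F)
  have hPc : Nat.card (P : Subgroup ↥(D.group F)) = p ^ a := P.card_eq_multiplicity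
  have ha0 : a ≠ 0 := by
    intro h
    rw [h, pow_zero, Subgroup.card_eq_one] at hPc
    have hmem : (⟨xg hD F (D.simple 0) 1, xg_mem_group hD _ _⟩ : ↥(D.group F)) ∈ (P : Subgroup ↥(D.group F)) :=
      Subgroup.subset_closure ⟨D.simple 0, 1, hR.pos_simple hD hrank, coe_xg hD _ _⟩
    rw [hPc, Subgroup.mem_bot] at hmem
    exact one_ne_zero (xg_eq_one hD (hD.simple_lt 0 hrank) (congrArg Subtype.val hmem))
  -- defect zero
  obtain ⟨hirr, hdeg, -, -⟩ := steinberg_facts hD hR (F := F)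
  let χ : IrrCharacter ↥(D.group F) := ⟨_, hirr⟩
  have hd : charDegree (χ : ↥(D.group F) → ℂ) = p ^ a := by
    have h1 := charDegree_cast χ
    rw [show (χ : ↥(D.group F) → ℂ) 1 = D.steinbergCharacter F 1 from rfl, hdeg,
      ← Nat.card_congr (Subgroup.subgroupOfEquivOfLe (U_le_group hD hR)).toEquiv] at h1
    rw [Nat.cast_inj] at h1
    exact h1.trans hPc
  have hsing : blockOf N (χ : ↥(D.group F) → ℂ) = {χ} := by
    refine (singleton_iff_not_dvd hN χ).1 ?_
    rw [hd]
    exact Nat.not_dvd_ordCompl hp Nat.card_pos.ne'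
  have h0 : Nat.card {B : Set (IrrCharacter ↥(D.group F)) // IsPBlock N B ∧ blockDefect p B = 0} = 1 := by
    rw [Nat.card_eq_one_iff_unique]
    refine ⟨⟨fun B B' => Subtype.ext (defect_zero_unique hD hR hN B.2.1 B.2.2 B'.2.1 B'.2.2)⟩,
      ⟨⟨blockOf N (χ : ↥(D.group F) → ℂ), ⟨χ, rfl⟩, ?_⟩⟩⟩
    rw [blockDefect, hsing, Set.image_singleton, csInf_singleton, hd, hp.factorization_pow,
      Finsupp.single_eq_same, Nat.sub_self]
  -- full defect
  have h1 : Nat.card {B : Set (IrrCharacter ↥(D.group F)) // IsPBlock N B ∧ a ≤ blockDefect p B} = 1 := by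
    refine le_antisymm ((BlocksNormal.card_blocks_le hN a).trans ?_) ?_
    · have key : ∀ C : {C : ConjClasses ↥(D.group F) // ∃ g : ↥(D.group F), ConjClasses.mk g = C ∧ IsPRegular p g ∧
          a ≤ (Nat.card (Subgroup.centralizer ({g} : Set ↥(D.group F)))).factorization p},
          C.1 = ConjClasses.mk 1 := fun C => by
        obtain ⟨g, hg, hreg, hga⟩ := C.2
        rw [← hg, eq_one_of_full hD hR hC hreg hga]
      haveI : Subsingleton {C : ConjClasses ↥(D.group F) // ∃ g : ↥(D.group F), ConjClasses.mk g = C ∧ IsPRegular p g ∧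
          a ≤ (Nat.card (Subgroup.centralizer ({g} : Set ↥(D.group F)))).factorization p} :=
        ⟨fun C C' => Subtype.ext ((key C).trans (key C').symm)⟩
      exact Finite.card_le_one_iff_subsingleton.2 inferInstance
    · have hmem : oneIrr ↥(D.group F) ∈ principalBlock N ↥(D.group F) := oneIrr_mem_principal hN
      haveI : Nonempty {B : Set (IrrCharacter ↥(D.group F)) // IsPBlock N B ∧ a ≤ blockDefect p B} := by
        refine ⟨⟨principalBlock N ↥(D.group F), isPBlock_principal, ?_⟩⟩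
        have hle : sInf ((fun ψ : IrrCharacter ↥(D.group F) => (charDegree (ψ : ↥(D.group F) → ℂ)).factorization p) ''
            principalBlock N ↥(D.group F)) ≤ (charDegree (oneIrr ↥(D.group F) : ↥(D.group F) → ℂ)).factorization p :=
          Nat.sInf_le ⟨_, hmem, rfl⟩
        have hone : charDegree (oneIrr ↥(D.group F) : ↥(D.group F) → ℂ) = 1 := by
          have h := charDegree_cast (oneIrr ↥(D.group F))
          rw [show (oneIrr ↥(D.group F) : ↥(D.group F) → ℂ) 1 = 1 from rfl] at h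
          exact_mod_cast h
        rw [hone, Nat.factorization_one, Finsupp.zero_apply] at hle
        rw [blockDefect]
        omega
      exact Nat.card_pos
  have hsum : Nat.card {B : Set (IrrCharacter ↥(D.group F)) // IsPBlock N B} =
      Nat.card {B : Set (IrrCharacter ↥(D.group F)) // IsPBlock N B ∧ a ≤ blockDefect p B} +
        Nat.card {B : Set (IrrCharacter ↥(D.group F)) // IsPBlock N B ∧ blockDefect p B = 0} := by
    rw [← Nat.card_sum]
    refine Nat.card_congr ((Equiv.subtypeEquivRight fun B => ?_).trans (subtypeOrEquiv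
      (fun B : Set (IrrCharacter ↥(D.group F)) => IsPBlock N B ∧ a ≤ blockDefect p B)
      (fun B => IsPBlock N B ∧ blockDefect p B = 0) ?_))
    · constructor
      · intro hB
        rcases defect_dichotomy hD hR hC hA hord hN hB with h | h
        · exact Or.inr ⟨hB, h⟩
        · exact Or.inl ⟨hB, h.ge⟩
      · rintro (⟨hB, -⟩ | ⟨hB, -⟩) <;> exact hB
    · intro q hq1 hq2 B hB
      exact absurd (Nat.le_zero.1 ((hq2 B hB).2 ▸ (hq1 B hB).2)) ha0
  rw [hsum, h1, h0]

end Cfsg.Agent.ChevBlocks
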