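import Cfsg.Agent.Lib.ChevBN.Data

/-!
# Table facts for the blocks of Chevalley groups: primitive coroots, symmetric zeros of the Cartan matrix
-/

set_option autoImplicit false
set_option maxRecDepth 100000
set_option synthInstance.maxSize 4000

namespace Cfsg.Agent.ChevBlocks

open Cfsg.Lie

/-- Every coroot has two coprime coefficients. -/
def CorootOK (D : ChevalleyDatum) : Prop :=
  ∀ q < D.nroots, ∃ i < D.rank, ∃ j < D.rank,
    Int.gcd ((D.coroot.getD q #[]).getD i 0) ((D.coroot.getD q #[]).getD j 0) = 1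

/-- The zeros of the Cartan matrix are symmetric. -/
def AdjOK (D : ChevalleyDatum) : Prop :=
  ∀ i < D.rank, ∀ j < D.rank, D.cartan i (D.simple j) = 0 → D.cartan j (D.simple i) = 0

theorem coroot_ne_zero {D : ChevalleyDatum} (h : CorootOK D) {q : ℕ} (hq : q < D.nroots)
    (F : Type*) [Field F] : ∃ i < D.rank, (((D.coroot.getD q #[]).getD i 0 : ℤ) : F) ≠ 0 := by
  obtain ⟨i, hi, j, hj, hg⟩ := h q hq
  by_contra hcon
  push Not at hcon
  obtain ⟨u, v, e⟩ := Int.isCoprime_iff_gcd_eq_one.2 hg
  have e' := congrArg (Int.cast : ℤ → F) e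
  rw [Int.cast_add, Int.cast_mul, Int.cast_mul, hcon i hi, hcon j hj, mul_zero, mul_zero, add_zero,
    Int.cast_one] at e'
  exact zero_ne_one e'

theorem corootG2 : CorootOK chevG2 := by unfold CorootOK; decide +kernel
theorem corootB2 : CorootOK chevB2 := by unfold CorootOK; decide +kernel
theorem corootD4 : CorootOK chevD4 := by unfold CorootOK; decide +kernel
theorem corootF4 : CorootOK chevF4 := by unfold CorootOK; decide +kernel
theorem corootE6 : CorootOK chevE6 := by unfold CorootOK; decide +kernel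
theorem corootE7 : CorootOK chevE7 := by unfold CorootOK; decide +kernel
theorem corootE8 : CorootOK chevE8 := by unfold CorootOK; decide +kernel

theorem adjG2 : AdjOK chevG2 := by unfold AdjOK; decide +kernel
theorem adjB2 : AdjOK chevB2 := by unfold AdjOK; decide +kernel
theorem adjD4 : AdjOK chevD4 := by unfold AdjOK; decide +kernel
theorem adjF4 : AdjOK chevF4 := by unfold AdjOK; decide +kernel
theorem adjE6 : AdjOK chevE6 := by unfold AdjOK; decide +kernel
theorem adjE7 : AdjOK chevE7 := by unfold AdjOK; decide +kernel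
theorem adjE8 : AdjOK chevE8 := by unfold AdjOK; decide +kernel

theorem tables_of_mem {D : ChevalleyDatum}
    (hD : D ∈ [chevG2, chevB2, chevD4, chevF4, chevE6, chevE7, chevE8]) : CorootOK D ∧ AdjOK D := by
  simp only [List.mem_cons, List.not_mem_nil, or_false] at hD
  rcases hD with rfl | rfl | rfl | rfl | rfl | rfl | rfl
  exacts [⟨corootG2, adjG2⟩, ⟨corootB2, adjB2⟩, ⟨corootD4, adjD4⟩, ⟨corootF4, adjF4⟩,
    ⟨corootE6, adjE6⟩, ⟨corootE7, adjE7⟩, ⟨corootE8, adjE8⟩]

end Cfsg.Agent.ChevBlocks
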