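import Cfsg.Agent.EqLemmas
import Cfsg.Agent.Lib.ChevBlocks.Tables
import Cfsg.Agent.Lib.ChevBN.Facts
import Cfsg.Agent.Lib.ChevOrder.CardH

/-!
# The leading entry of a conjugate of a root element

For `a ∈ U` and a positive root `r` the entry of `a x_r(t) a⁻¹` at `(h_i, e_{-r})` is `t` times the
coroot coefficient. Consequences: `lead_pos`, `lead_root`, and `eq_one_of_commute_pos`.
-/

set_option autoImplicit false

namespace Cfsg.Agent.ChevBlocks

open Cfsg.Lie Cfsg.Lie.ChevalleyDatum Cfsg.Agent.Chev Cfsg.Agent.ChevSt Cfsg.Agent.ChevBN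
open scoped Matrix

variable {D : ChevalleyDatum} (hD : Good D) {F : Type*} [Field F]

include hD

/-- A root element moves weights up by at least `f r`. -/
theorem jump_x {f : ℕ → ℤ} (hf : IsLin D f) {r : ℕ} (hr : r < D.nroots) (hfr : 0 < f r) (t : F)
    {a b : D.Idx} (h : xR D F r t a b ≠ 0) : a = b ∨ f r ≤ wt D f a - wt D f b := by
  have hne := hD.neg_ne r hr
  by_cases hab : a = b
  · exact Or.inl hab
  right
  have e : xR D F r t a b = (xR D F r t *ᵥ Pi.single b 1) a := by
    rw [Matrix.mulVec_single_one]; rfl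
  rw [e] at h
  rcases b with i | ⟨s, hs⟩
  · rw [xR_inl] at h
    rcases a with j | ⟨u, hu⟩
    · simp [Pi.single_apply, ev] at h
      exact absurd (congrArg Sum.inl h) hab
    · simp [ev] at h
      simp [wt, h.1]
  · rw [← ev_of_lt D F hs] at h
    by_cases h₁ : s = r
    · subst h₁
      rw [xR_self D s t hr] at h
      rcases a with j | ⟨u, hu⟩
      · simp [ev] at h
      · simp [ev] at h; exact absurd (by simp [h]) hab
    by_cases h₂ : s = D.neg r
    · subst h₂
      rw [xR_neg D r t (hD.neg_lt r hr) hne] at h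
      rcases a with j | ⟨u, hu⟩
      · simp [wt, hf.neg r hr]
      · have hur : u = r := by
          by_contra hur
          have hun : u ≠ D.neg r := fun e' => hab (by simp [e'])
          simp [ev, hv, hur, hun] at h
        simp [wt, hf.neg r hr, hur]
        omega
    · rw [xR_gen D r t (hD.keys r hr) hs h₁ h₂] at h
      have hc : sumCol D F t (D.chainEntry r s) 1 a ≠ 0 := by
        intro h0
        rcases a with j | ⟨u, hu⟩
        · simp [ev, h0] at h
        · have hus : u ≠ s := fun e' => hab (by simp [e'])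
          simp [ev, h0, hus] at h
      obtain ⟨i, u, hu, hi, rfl⟩ := sumCol_support t _ _ a hc
      obtain ⟨-, -, -, h4⟩ := stepOK_getElem hD hf hr (hD.step r hr s hs h₁ h₂) hi
      have : (0 : ℤ) ≤ (i : ℤ) * f r := mul_nonneg (by positivity) hfr.le
      simp [wt, h4]
      push_cast at this
      linarith

variable {M : List (List ℤ)} {d : ℤ} (hR : Roots D M d)

include hR

/-- The entry of `a x_r(t) a⁻¹` at `(h_i, e_{-r})`. -/
theorem lead_entry {a : GL D.Idx F} (ha : a ∈ D.posUnipotent F) {r : ℕ} (hr : D.IsPosRoot r) (t : F)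
    (i : Fin D.rank) :
    ((a * xg hD F r t * a⁻¹ : GL D.Idx F) : Matrix D.Idx D.Idx F) (Sum.inl i)
        (Sum.inr ⟨D.neg r, hD.neg_lt r hr.1⟩) =
      (((D.coroot.getD r #[]).getD i.val 0 : ℤ) : F) * t := by
  set c₀ : D.Idx := Sum.inl i with hc₀
  set d₀ : D.Idx := Sum.inr ⟨D.neg r, hD.neg_lt r hr.1⟩ with hd₀
  set A : Matrix D.Idx D.Idx F := (a : Matrix D.Idx D.Idx F) with hA
  set B : Matrix D.Idx D.Idx F := ((a⁻¹ : GL D.Idx F) : Matrix D.Idx D.Idx F) with hB
  set X : Matrix D.Idx D.Idx F := xR D F r t with hX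
  have hAB : A * B = 1 := by rw [hA, hB, ← Units.val_mul, mul_inv_cancel, Units.val_one]
  have hf := isLin_ht hD M
  have hfr := hR.ht_pos r hr.1 hr
  have hXd : ∀ c, X c c = 1 := fun c => by
    rw [hX, ← x_eq_xR D hr.1]; exact (uTri_x hD hf hr.1 hfr t).2 c
  have hcd : c₀ ≠ d₀ := by simp [hc₀, hd₀]
  have hw : wt D (ht D M) c₀ - wt D (ht D M) d₀ = ht D M r := by
    simp [hc₀, hd₀, wt, hf.neg r hr.1]
  have hval : ((a * xg hD F r t * a⁻¹ : GL D.Idx F) : Matrix D.Idx D.Idx F) = 1 + A * (X - 1) * B := by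
    rw [Units.val_mul, Units.val_mul, coe_xg, x_eq_xR D hr.1, ← hX, ← hA, ← hB, mul_sub, mul_one,
      sub_mul, hAB, add_sub_cancel]
  have hAu := uTri_pos hD hR ha
  have hBu := uTri_pos hD hR (inv_mem ha)
  rw [hval, Matrix.add_apply, Matrix.one_apply_ne hcd, zero_add, Matrix.mul_apply,
    Finset.sum_eq_single d₀]
  · rw [show B d₀ d₀ = 1 from hBu.2 d₀, mul_one, Matrix.mul_apply, Finset.sum_eq_single c₀]
    · rw [show A c₀ c₀ = 1 from hAu.2 c₀, one_mul, Matrix.sub_apply, Matrix.one_apply_ne hcd, sub_zero, hX,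
        show xR D F r t c₀ d₀ = (xR D F r t *ᵥ Pi.single d₀ 1) c₀ by
          rw [Matrix.mulVec_single_one]; rfl,
        hd₀, ← ev_of_lt D F (hD.neg_lt r hr.1), xR_neg D r t (hD.neg_lt r hr.1) (hD.neg_ne r hr.1)]
      simp [hc₀, ev, hv, mul_comm]
    · intro c _ hc
      by_contra h
      rcases hAu.1 c₀ c (left_ne_zero_of_mul h) with e | e
      · exact hc e.symm
      · have h2 := right_ne_zero_of_mul h
        by_cases hce : c = d₀
        · subst hce; rw [Matrix.sub_apply, hXd, Matrix.one_apply_eq, sub_self] at h2; exact h2 rfl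
        rw [Matrix.sub_apply, Matrix.one_apply_ne hce, sub_zero] at h2
        rcases jump_x hD hf hr.1 hfr t h2 with e' | e'
        · exact hce e'
        · omega
    · simp
  · intro c _ hc
    by_contra h
    rcases hBu.1 c d₀ (right_ne_zero_of_mul h) with e | e
    · exact hc e
    · have h1 := left_ne_zero_of_mul h
      rw [Matrix.mul_apply] at h1
      obtain ⟨c', -, hc'⟩ := Finset.exists_ne_zero_of_sum_ne_zero h1
      have hA1 : wt D (ht D M) c' ≤ wt D (ht D M) c₀ := by
        rcases hAu.1 c₀ c' (left_ne_zero_of_mul hc') with e' | e'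
        · rw [e']
        · exact e'.le
      have h2 := right_ne_zero_of_mul hc'
      by_cases hce : c' = c
      · subst hce; rw [Matrix.sub_apply, hXd, Matrix.one_apply_eq, sub_self] at h2; exact h2 rfl
      rw [Matrix.sub_apply, Matrix.one_apply_ne hce, sub_zero] at h2
      rcases jump_x hD hf hr.1 hfr t h2 with e' | e'
      · exact hce e'
      · omega
  · simp

variable (hC : CorootOK D)
include hC

/-- A conjugate of a root element in the span of `{g > 0}` has a root with `g > 0`. -/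
theorem lead_pos {a : GL D.Idx F} (ha : a ∈ D.posUnipotent F) {r : ℕ} (hr : D.IsPosRoot r) {t : F}
    (ht : t ≠ 0) {g : ℕ → ℤ} (hg : IsLin D g)
    (hz : a * xg hD F r t * a⁻¹ ∈ Subgroup.closure {x : GL D.Idx F | ∃ (q : ℕ) (u : F),
      q < D.nroots ∧ 0 < g q ∧ (x : Matrix D.Idx D.Idx F) = D.x F q u}) : 0 < g r := by
  obtain ⟨i, hi, hne⟩ := coroot_ne_zero hC hr.1 F
  have h := lead_entry hD hR ha hr t ⟨i, hi⟩
  have hnz : (((D.coroot.getD r #[]).getD i 0 : ℤ) : F) * t ≠ 0 := mul_ne_zero hne ht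
  rw [← h] at hnz
  rcases (uTri_closure hD hg hz).1 _ _ hnz with e | e
  · simp at e
  · simp [wt, hg.neg r hr.1] at e
    exact e

/-- Conjugate root elements of positive roots belong to one root. -/
theorem lead_root {a : GL D.Idx F} (ha : a ∈ D.posUnipotent F) {r s : ℕ} (hr : D.IsPosRoot r)
    (hs : s < D.nroots) {t u : F} (ht : t ≠ 0) (e : a * xg hD F r t * a⁻¹ = xg hD F s u) :
    s = r ∧ u = t := by
  obtain ⟨i, hi, hne⟩ := coroot_ne_zero hC hr.1 F
  have h := lead_entry hD hR ha hr t ⟨i, hi⟩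
  have hn := hD.neg_lt r hr.1
  rw [e, coe_xg, x_eq_xR D hs, show xR D F s u (Sum.inl (⟨i, hi⟩ : Fin D.rank)) (Sum.inr ⟨D.neg r, hn⟩) =
    (xR D F s u *ᵥ Pi.single (Sum.inr ⟨D.neg r, hn⟩) 1) (Sum.inl ⟨i, hi⟩) by
      rw [Matrix.mulVec_single_one]; rfl, ← ev_of_lt D F hn] at h
  have hnz : (((D.coroot.getD r #[]).getD i 0 : ℤ) : F) * t ≠ 0 := mul_ne_zero hne ht
  by_cases h₁ : D.neg r = s
  · rw [h₁, xR_self D s u hs] at h
    exact absurd (by simpa [ev] using h.symm) hnz
  by_cases h₂ : D.neg r = D.neg s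
  · obtain rfl : s = r := by rw [← hD.neg_neg r hr.1, h₂, hD.neg_neg s hs]
    rw [xR_neg D s u (hD.neg_lt s hs) (hD.neg_ne s hs)] at h
    simp [ev, hv] at h
    rw [mul_comm] at h
    exact ⟨rfl, mul_left_cancel₀ (by simpa using hne) (by simpa [mul_comm] using h)⟩
  rw [xR_gen D s u (hD.keys s hs) hn h₁ h₂] at h
  exact absurd (by simpa [ev, sumCol_apply_inl] using h.symm) hnz

/-- A toral element whose conjugation fixes a root element up to conjugation in `U`. -/
theorem toral_fix {a h : GL D.Idx F} (ha : a ∈ D.posUnipotent F) {r : ℕ} (hr : D.IsPosRoot r)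
    (hh : h ∈ D.diagonalSubgroup F)
    (e : a * (h * xg hD F r 1 * h⁻¹) * a⁻¹ = xg hD F r 1) : h * xg hD F r 1 = xg hD F r 1 * h := by
  obtain ⟨χ, hχ, hc⟩ := isToral_of_mem hD hh
  rw [hc, mul_inv_cancel_right, mul_one] at e
  have h1 : (1 : F) = (χ r : F) := (lead_root hD hR hC ha hr hr.1 (χ r).ne_zero e).2
  rw [hc, mul_one, ← h1]

omit hC in
/-- A toral element commuting with the positive root elements is trivial. -/
theorem eq_one_of_commute_pos {h : GL D.Idx F} (hh : h ∈ D.diagonalSubgroup F)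
    (hc : ∀ r, D.IsPosRoot r → h * xg hD F r 1 = xg hD F r 1 * h) : h = 1 := by
  obtain ⟨χ, hχ, hconj⟩ := isToral_of_mem hD hh
  have hχ' := hh
  rw [← ChevOrder.torusHom_range hD] at hχ'
  obtain ⟨c, rfl⟩ := hχ'
  have heq : ∀ s < D.nroots, χ s = ChevOrder.chi c s := by
    intro s hs
    have h1 := congrFun (congrFun ((ChevOrder.coe_torusHom c).symm.trans hχ) (Sum.inr ⟨s, hs⟩))
      (Sum.inr ⟨s, hs⟩)
    simp only [dg, Matrix.diagonal_apply_eq, Sum.elim_inr] at h1
    exact (Units.ext h1).symm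
  have hpos : ∀ r, D.IsPosRoot r → χ r = 1 := by
    intro r hr
    have e := (hconj r 1).symm.trans (hc r hr)
    rw [mul_one] at e
    have e' : xg hD F r ((χ r : F) + -1) = 1 := by
      rw [← xg_add hD hr.1, mul_right_cancel e, xg_add hD hr.1, add_neg_cancel, xg_zero]
    exact Units.ext (by rw [Units.val_one]; linear_combination xg_eq_one hD hr.1 e')
  have hall : ∀ s < D.nroots, χ s = 1 := by
    intro s hs
    by_cases hp : D.IsPosRoot s
    · exact hpos s hp
    have h1 := hpos _ ((pos_or_neg hD hs).2 hp)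
    rw [heq _ (hD.neg_lt s hs)] at h1
    have h2 : ChevOrder.chi c (D.neg s) = (ChevOrder.chi c s)⁻¹ := by
      simp only [ChevOrder.chi, hD.cartan_neg s hs _ (Fin.isLt _), zpow_neg, Finset.prod_inv_distrib]
    rw [h2, inv_eq_one] at h1
    rw [heq s hs, h1]
  apply Units.ext
  rw [hχ, Units.val_one, dg, ← Matrix.diagonal_one]
  congr 1
  ext x
  rcases x with i | q
  · rfl
  · simp [hall q.val q.isLt]

end Cfsg.Agent.ChevBlocks
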