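import Cfsg.Agent.Lib.ChevBlocks.Lead
import Cfsg.Agent.Lib.ChevBN.Simple
import Cfsg.Agent.Lib.ChevBN.Parabolic

/-!
# Intersections `U ⊓ x U x⁻¹` centralised by `x`

If a family of subgroups closed under conjugation has, for each member `≤ U`, an element centralising
it with `U ⊓ x U x⁻¹` equal to it, then its members in `U` are `1` and `U` (`trivial_or_full`).
-/

set_option autoImplicit false

namespace Cfsg.Agent.ChevBlocks

open Cfsg.Lie Cfsg.Lie.ChevalleyDatum Cfsg.Agent.Chev Cfsg.Agent.ChevSt Cfsg.Agent.ChevBN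
open Cfsg.Agent.RGD Cfsg.Agent.RGD.RootData

section rgd

variable {Γ : Type*} [Group Γ] {Φ I : Type*} (R : RootData Γ Φ I)

/-- The positive roots kept positive by `l`. -/
def Psi (l : List I) : Set Φ := {r | R.pos r ∧ R.pos (R.ww l r)}

lemma U_le_span_psi {l : List I} {r : Φ} (h : r ∈ Psi R l) : R.U r ≤ R.span (Psi R l) := R.U_le_span h

lemma span_psi_le_Upos (l : List I) : R.span (Psi R l) ≤ R.Upos := R.span_mono fun _ h => h.1

lemma conj_span_psi (l : List I) : ∀ z ∈ R.span (Psi R l), R.nw l * z * (R.nw l)⁻¹ ∈ R.Upos :=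
  R.span_conj fun r hr y hy => R.U_le_span (A := {s | R.pos s}) hr.2 (R.conj_U_mem (R.map_conj_U l r) hy)

lemma U_pos_of_le {r : Φ} (h : R.U r ≤ R.Upos) : R.pos r :=
  (R.U_le_B_iff r).1 (h.trans R.Upos_le_B)

lemma conj_U_pos {g : Γ} {r s : Φ} (h : (R.U r).map (MulAut.conj g).toMonoidHom = R.U s)
    (h' : ∀ z ∈ R.U r, g * z * g⁻¹ ∈ R.Upos) : R.pos s := by
  refine U_pos_of_le R fun y hy => ?_
  rw [← h] at hy
  obtain ⟨z, hz, rfl⟩ := hy
  exact h' z hz

/-- `U ⊓ n⁻¹ U n` is the span of the kept roots. -/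
lemma mem_span_psi {l₀ : List I} (hl₀ : ∀ r, R.pos r → ¬ R.pos (R.ww l₀ r)) {l : List I} {z : Γ}
    (hz : z ∈ R.Upos) (hz' : R.nw l * z * (R.nw l)⁻¹ ∈ R.Upos) : z ∈ R.span (Psi R l) := by
  have hset : R.Uminus (l₀ ++ l) = R.span (Psi R l) := by
    unfold Uminus
    congr 1
    ext r
    refine and_congr_right fun _ => ?_
    rw [R.ww_append]
    refine ⟨fun h => ?_, hl₀ _⟩
    by_contra hc
    refine hl₀ (R.neg (R.ww l r)) ((R.pos_neg _).2 hc) ?_
    rw [R.ww_neg, R.pos_neg]
    exact h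
  obtain ⟨q, hq, hq', m, hm, rfl⟩ := R.exists_split (l₀ ++ l) hz
  rw [hset] at hm
  have h1 : R.nw l * q * (R.nw l)⁻¹ ∈ R.Upos := by
    have := mul_mem hz' (inv_mem (conj_span_psi R l m hm))
    rwa [show R.nw l * (q * m) * (R.nw l)⁻¹ * (R.nw l * m * (R.nw l)⁻¹)⁻¹ =
      R.nw l * q * (R.nw l)⁻¹ by group] at this
  have h2 : R.nw l₀ * (R.nw l * q * (R.nw l)⁻¹) * (R.nw l₀)⁻¹ ∈ R.Vneg :=
    R.map_conj_long hl₀ ▸ ⟨_, h1, rfl⟩
  have h3 : R.nw l₀ * (R.nw l * q * (R.nw l)⁻¹) * (R.nw l₀)⁻¹ ∈ R.B := by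
    refine R.Upos_le_B ?_
    rw [R.nw_append] at hq'
    simpa [mul_assoc] using hq'
  have h4 : R.nw l₀ * (R.nw l * q * (R.nw l)⁻¹) * (R.nw l₀)⁻¹ ∈ R.B ⊓ R.Vneg :=
    Subgroup.mem_inf.2 ⟨h3, h2⟩
  rw [show R.B ⊓ R.Vneg = ⊥ from R.B_inf_V, Subgroup.mem_bot, conj_eq_one_iff, conj_eq_one_iff] at h4
  rw [h4, one_mul]
  exact hm

end rgd

variable {D : ChevalleyDatum} {M : List (List ℤ)} {d : ℤ} (hD : Good D) (hR : Roots D M d)
  {F : Type*} [Field F]

local notation "RR" => chevRGD hD hR F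

include hD hR

omit F in
/-- Two fundamental roots on different sides of a cut are linked. -/
theorem exists_adj {ord : List ℕ} (hord : ConnOK D ord) (hA : AdjOK D) {P : ℕ → Prop}
    (h1 : ∃ i < D.rank, P i) (h2 : ∃ i < D.rank, ¬ P i) :
    ∃ k < D.rank, ∃ j < D.rank, ¬ P k ∧ P j ∧ D.cartan k (D.simple j) ≠ 0 := by
  have hcomm : ∀ i < D.rank, ∀ j < D.rank, i ≠ j → D.cartan i (D.simple j) = 0 →
      NonComm D i j = false := by
    intro i hi j hj hne h
    have h' := hA i hi j hj h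
    have hsi := hD.simple_lt i hi
    have hsj := hD.simple_lt j hj
    have fij : ∀ {a b : ℕ}, a < D.rank → b < D.rank → D.cartan a (D.simple b) = 0 →
        wN D a (D.simple b) = D.simple b := fun {a b} ha hb hab => by
      refine hR.root_ext (refl_lt hD (hD.simple_lt a ha) (hD.simple_lt b hb)) (hD.simple_lt b hb)
        fun k hk => ?_
      rw [hR.co_refl hD ha (hD.simple_lt b hb) hk, hab]
      simp
    have self : ∀ {a : ℕ}, a < D.rank → wN D a (D.simple a) = D.neg (D.simple a) := fun {a} ha => by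
      simp [wN, Chev.refl]
    simp only [NonComm, fij hj hi h', fij hi hj h, self hi, self hj, hR.refl_neg hD hj hsi,
      hR.refl_neg hD hi hsj, hR.refl_neg hD hi hsi, hR.refl_neg hD hj hsj, hD.neg_neg _ hsi,
      hD.neg_neg _ hsj, hR.pos_simple hD hi, hR.pos_simple hD hj, decide_true, Bool.not_true, Bool.or_self]
  by_contra hcon
  push Not at hcon
  have hall : ∀ q < ord.length, (P (ord.getD q 0) ↔ P (ord.getD 0 0)) := by
    intro q
    induction q using Nat.strong_induction_on with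
    | _ q ih =>
      intro hq
      by_cases h0 : q = 0
      · rw [h0]
      obtain ⟨q', hq', h⟩ := hord.2.2 q hq h0
      have hget : ∀ a < ord.length, ord.getD a 0 < D.rank := fun a ha => by
        rw [List.getD_eq_getElem _ _ ha]; exact hord.2.1 _ (List.getElem_mem _)
      refine Iff.trans ?_ (ih q' hq' (by omega))
      by_contra hiff
      have hne : ord.getD q 0 ≠ ord.getD q' 0 := fun e => hiff (by rw [e])
      have hz : D.cartan (ord.getD q 0) (D.simple (ord.getD q' 0)) = 0 := by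
        by_cases hP : P (ord.getD q 0)
        · exact hA _ (hget q' (by omega)) _ (hget q hq)
            (hcon _ (hget q' (by omega)) _ (hget q hq) (fun h' => hiff (iff_of_true hP h')) hP)
        · exact hcon _ (hget q hq) _ (hget q' (by omega)) hP (by
            by_contra h'
            exact hiff (iff_of_false hP h'))
      rw [hcomm _ (hget q hq) _ (hget q' (by omega)) hne hz] at h
      exact Bool.false_ne_true h
  obtain ⟨i, hi, hPi⟩ := h1
  obtain ⟨j, hj, hPj⟩ := h2
  obtain ⟨a, ha, rfl⟩ := List.getElem_of_mem (hord.1 i hi)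
  obtain ⟨b, hb, rfl⟩ := List.getElem_of_mem (hord.1 j hj)
  rw [← List.getD_eq_getElem _ 0 ha] at hPi
  rw [← List.getD_eq_getElem _ 0 hb] at hPj
  exact hPj ((hall b hb).2 ((hall a ha).1 hPi))

omit F in
/-- A linear function non-negative at the fundamental roots vanishes only on combinations of those where
it vanishes. -/
theorem co_eq_zero_of_lin {f : ℕ → ℤ} (hf : IsLin D f) (h : ∀ k < D.rank, 0 ≤ f (D.simple k)) {q : ℕ}
    (hq : D.IsPosRoot q) (hfq : f q = 0) {k : ℕ} (hk : k < D.rank) (hfk : 0 < f (D.simple k)) :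
    co D M k q = 0 := by
  let s : ℕ → ℤ := fun x => ((List.range D.rank).map fun a => f (D.simple a) * co D M a x).sum
  have hs : IsLin D s := isLin_sum _ fun a _ => (isLin_co hD M a).smul _
  have he : d * f q = s q := by
    refine lin_ext hD hR (hf.smul d) hs (fun i hi => ?_) hq.1
    show d * f (D.simple i) = _
    simp only [s]
    rw [List.map_congr_left (g := fun a => if a = i then d * f (D.simple i) else 0) (fun a ha => by
      rw [hR.dual a (List.mem_range.1 ha) i hi]
      split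
      · next e => subst e; ring
      · simp), List.sum_map_ite_eq, List.count_eq_one_of_mem List.nodup_range (List.mem_range.2 hi)]
    simp
  rw [hfq, mul_zero] at he
  have hnn : ∀ x ∈ (List.range D.rank).map fun a => f (D.simple a) * co D M a q, 0 ≤ x := by
    intro x hx
    obtain ⟨a, ha, rfl⟩ := List.mem_map.1 hx
    exact mul_nonneg (h a (List.mem_range.1 ha)) ((hR.sgn q hq.1).1 hq a (List.mem_range.1 ha))
  have hle := List.single_le_sum hnn _ (List.mem_map.2 ⟨k, List.mem_range.2 hk, rfl⟩)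
  have h0 := (hR.sgn q hq.1).1 hq k hk
  simp only [s] at he
  rw [← he] at hle
  have h2 := mul_nonneg hfk.le h0
  exact (mul_eq_zero.1 (le_antisymm hle h2)).resolve_left hfk.ne'

/-- If `l` fixes the roots it keeps positive, they form the positive part of a standard subsystem. -/
theorem psi_shape {l : List (Fin D.rank)} (hfix : ∀ q ∈ Psi RR l, (RR).ww l q = q) (q : Fin D.nroots) :
    q ∈ Psi RR l ↔ (RR).pos q ∧ ∀ k : Fin D.rank, (RR).simple k ∉ Psi RR l → co D M k.val q.val = 0 := by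
  let R := RR
  obtain ⟨g, hg, e⟩ := lin_comp hD hR F l (isLin_ht hD M)
  let f : ℕ → ℤ := fun x => ht D M x + -1 * g x
  have hf : IsLin D f := (isLin_ht hD M).addFun (hg.smul (-1))
  have hneg : ∀ r : Fin D.nroots, ¬ R.pos (R.ww l r) → g r.val < 0 := fun r hr => by
    rw [e r]
    have h3 := hR.ht_pos _ (hD.neg_lt _ (R.ww l r).isLt) ((pos_or_neg hD (R.ww l r).isLt).2 hr)
    rw [(isLin_ht hD M).neg _ (R.ww l r).isLt] at h3
    exact lt_of_neg_lt_neg (by simpa using h3)
  have hsimple : ∀ k : Fin D.rank, (R.simple k ∈ Psi R l → f (D.simple k.val) = 0) ∧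
      (R.simple k ∉ Psi R l → 0 < f (D.simple k.val)) := by
    intro k
    constructor
    · intro hk
      have h1 := e (R.simple k)
      rw [hfix _ hk] at h1
      show ht D M (D.simple k.val) + -1 * g (D.simple k.val) = 0
      rw [show g (D.simple k.val) = ht D M (D.simple k.val) from h1]
      ring
    · intro hk
      have h1 := hneg (R.simple k) fun h => hk ⟨R.pos_simple k, h⟩
      have h2 := hR.ht_pos _ (hD.simple_lt _ k.isLt) (hR.pos_simple hD k.isLt)
      show 0 < ht D M (D.simple k.val) + -1 * g (D.simple k.val)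
      have h1' : g (D.simple k.val) < 0 := h1
      omega
  have hnn : ∀ k < D.rank, 0 ≤ f (D.simple k) := fun k hk => by
    by_cases h : R.simple ⟨k, hk⟩ ∈ Psi R l
    · exact ((hsimple ⟨k, hk⟩).1 h).ge
    · exact ((hsimple ⟨k, hk⟩).2 h).le
  constructor
  · intro hq
    refine ⟨hq.1, fun k hk => ?_⟩
    refine co_eq_zero_of_lin hD hR hf hnn hq.1 ?_ k.isLt ((hsimple k).2 hk)
    show ht D M q.val + -1 * g q.val = 0
    rw [e q, hfix q hq]
    ring
  · rintro ⟨hp, hco⟩
    refine ⟨hp, ?_⟩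
    by_contra hneg'
    have h1 := hneg q hneg'
    have h2 := hR.ht_pos _ q.isLt hp
    let s : ℕ → ℤ := fun x => ((List.range D.rank).map fun a => f (D.simple a) * co D M a x).sum
    have hs : IsLin D s := isLin_sum _ fun a _ => (isLin_co hD M a).smul _
    have he : d * f q.val = s q.val := by
      refine lin_ext hD hR (hf.smul d) hs (fun i hi => ?_) q.isLt
      show d * f (D.simple i) = _
      simp only [s]
      rw [List.map_congr_left (g := fun a => if a = i then d * f (D.simple i) else 0) (fun a ha => by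
        rw [hR.dual a (List.mem_range.1 ha) i hi]
        split
        · next e => subst e; ring
        · simp), List.sum_map_ite_eq, List.count_eq_one_of_mem List.nodup_range (List.mem_range.2 hi)]
      simp
    have hs0 : s q.val = 0 := List.sum_eq_zero fun x hx => by
      obtain ⟨a, ha, rfl⟩ := List.mem_map.1 hx
      by_cases h : R.simple ⟨a, List.mem_range.1 ha⟩ ∈ Psi R l
      · rw [(hsimple ⟨a, _⟩).1 h, zero_mul]
      · rw [hco ⟨a, _⟩ h, mul_zero]
    rw [hs0] at he
    have h4 : ht D M q.val + -1 * g q.val = 0 := (mul_eq_zero.1 he).resolve_left hR.d_pos.ne'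
    omega

/-- Conjugation-closed families of tame self-centralised intersections. -/
structure Tame (Def : Subgroup (GL D.Idx F) → Prop) : Prop where
  conj : ∀ E, Def E → ∀ g ∈ D.group F, Def (E.map (MulAut.conj g).toMonoidHom)
  inter : ∀ E, Def E → E ≤ D.posUnipotent F → ∃ x ∈ D.group F, (∀ z ∈ E, x * z = z * x) ∧
    ∀ z, z ∈ E ↔ z ∈ D.posUnipotent F ∧ x⁻¹ * z * x ∈ D.posUnipotent F

variable (hC : CorootOK D) {Def : Subgroup (GL D.Idx F) → Prop} (hT : Tame (D := D) Def)
include hC hT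

/-- A member in `U` is conjugate in `U` to the span of kept roots, each fixed by the word. -/
theorem exists_normal {E : Subgroup (GL D.Idx F)} (hE : Def E) (hEU : E ≤ D.posUnipotent F) :
    ∃ a ∈ D.posUnipotent F, ∃ l, E = ((RR).span (Psi RR l)).map (MulAut.conj a).toMonoidHom ∧
      ∀ q ∈ Psi RR l, (RR).ww l q = q := by
  let R := RR
  obtain ⟨x, hx, hcent, hmem⟩ := hT.inter E hE hEU
  rw [← chev_G hD hR] at hx
  simp only [← chev_Upos hD hR] at hmem ⊢
  obtain ⟨c, hc, l', u, hu, rfl⟩ := R.exists_normalForm hx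
  obtain ⟨a, ha, h₁, hh₁, rfl⟩ := R.exists_B hc
  obtain ⟨k, hk, ek⟩ := R.exists_nw_inv l'
  obtain ⟨l₀, hl₀⟩ := exists_long hD hR (F := F)
  set n := R.nw l'.reverse with hndef
  have hn : R.nw l' = n⁻¹ * k⁻¹ := by rw [← inv_inv (R.nw l'), ek, mul_inv_rev]
  set h := n * h₁ * n⁻¹ * k⁻¹ with hh'
  have hh : h ∈ R.H := mul_mem (R.nw_conj_H _ hh₁) (inv_mem hk)
  have hx' : a * h₁ * R.nw l' * u = a * n⁻¹ * h * u := by rw [hn, hh']; group
  have hu' : u ∈ R.Upos := R.Uminus_le_Upos _ hu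
  rw [hx'] at hcent hmem
  have hz : ∀ z, z ∈ E ↔ a⁻¹ * z * a ∈ R.span (Psi R l'.reverse) := by
    intro z
    rw [hmem z]
    constructor
    · rintro ⟨h1, h2⟩
      refine mem_span_psi R hl₀ (mul_mem (mul_mem (inv_mem ha) h1) ha) ?_
      have h3 := mul_mem (mul_mem hu' h2) (inv_mem hu')
      have h4 : h * (u * ((a * n⁻¹ * h * u)⁻¹ * z * (a * n⁻¹ * h * u)) * u⁻¹) * h⁻¹ ∈ R.Upos :=
        R.H_conj_span _ hh _ h3
      rw [← hndef]
      convert h4 using 1
      group
    · intro h1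
      refine ⟨?_, ?_⟩
      · have := mul_mem (mul_mem ha (span_psi_le_Upos R _ h1)) (inv_mem ha)
        convert this using 1
        group
      · have h4 := R.H_conj_span _ (inv_mem hh) _ (conj_span_psi R _ _ h1)
        rw [← hndef] at h4
        have h5 := mul_mem (mul_mem (inv_mem hu') h4) hu'
        convert h5 using 1
        group
  refine ⟨a, ha, l'.reverse, ?_, fun q hq => ?_⟩
  · ext z
    rw [hz, RootData.mem_map_conj]
  · have hxq : xg hD F q.val (1 : F) ∈ R.U q := xg_mem_rootSubgroup hD _ _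
    set x₁ := xg hD F q.val (1 : F)
    have he := hcent (a * x₁ * a⁻¹) ((hz _).2 (by
      rw [show a⁻¹ * (a * x₁ * a⁻¹) * a = x₁ by group]
      exact U_le_span_psi R hq hxq))
    have hy : (u * a) * x₁ * (u * a)⁻¹ = h⁻¹ * (n * x₁ * n⁻¹) * h := by
      calc (u * a) * x₁ * (u * a)⁻¹
          = h⁻¹ * n * a⁻¹ * (a * n⁻¹ * h * u * (a * x₁ * a⁻¹)) * u⁻¹ := by group
        _ = _ := by rw [he]; group
    have hmemU : h⁻¹ * (n * x₁ * n⁻¹) * h ∈ R.U (R.ww l'.reverse q) :=
      R.conj_H_U' hh (R.conj_U_mem (R.map_conj_U _ q) hxq)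
    rw [← hy] at hmemU
    obtain ⟨t, et⟩ := (mem_rootSubgroup hD _).1 hmemU
    have hua : u * a ∈ D.posUnipotent F := by rw [← chev_Upos hD hR]; exact mul_mem hu' ha
    exact Fin.ext (lead_root hD hR hC hua hq.1 (R.ww l'.reverse q).isLt one_ne_zero et).1

variable [Finite F] (hA : AdjOK D) {ord : List ℕ} (hord : ConnOK D ord)
include hA hord

/-- The members in `U` are trivial or `U`. -/
theorem trivial_or_full {E : Subgroup (GL D.Idx F)} (hE : Def E) (hEU : E ≤ D.posUnipotent F) :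
    E = ⊥ ∨ D.posUnipotent F ≤ E := by
  let R := RR
  obtain ⟨a, ha, l, hEa, hfix⟩ := exists_normal hD hR hC hT hE hEU
  have hshape := psi_shape hD hR hfix
  by_cases hnone : ∀ i : Fin D.rank, R.simple i ∉ Psi R l
  · left
    have h0 : R.span (Psi R l) = ⊥ := by
      refine eq_bot_iff.2 (R.span_le fun q hq => ?_)
      obtain ⟨hp, hco⟩ := (hshape q).1 hq
      have hh := hR.ht_pos _ q.isLt hp
      have : ht D M q.val = 0 := List.sum_eq_zero fun x hx => by
        obtain ⟨k, hk, rfl⟩ := List.mem_map.1 hx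
        exact hco ⟨k, List.mem_range.1 hk⟩ (hnone _)
      omega
    rw [hEa, h0, Subgroup.map_bot]
  push Not at hnone
  by_cases hall : ∀ i : Fin D.rank, R.simple i ∈ Psi R l
  · right
    rw [← chev_Upos hD hR (F := F)] at ha ⊢
    intro z hz
    rw [hEa, RootData.mem_map_conj]
    refine R.span_mono (A := {s | R.pos s}) (fun q hq => (hshape q).2 ⟨hq, fun k hk => absurd (hall k) hk⟩) ?_
    exact mul_mem (mul_mem (inv_mem ha) hz) ha
  exfalso
  push Not at hall
  obtain ⟨i₁, hi₁⟩ := hnone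
  obtain ⟨i₂, hi₂⟩ := hall
  obtain ⟨k, hk, j, hj, hkΨ, hjΨ, hkj⟩ := exists_adj hD hR hord hA
    (P := fun i => ∃ hi : i < D.rank, R.simple ⟨i, hi⟩ ∈ Psi R l)
    ⟨i₁.val, i₁.isLt, i₁.isLt, hi₁⟩ ⟨i₂.val, i₂.isLt, fun ⟨_, h⟩ => hi₂ h⟩
  replace hjΨ : R.simple ⟨j, hj⟩ ∈ Psi R l := hjΨ.elim fun _ h => h
  have hkΨ' : R.simple ⟨k, hk⟩ ∉ Psi R l := fun h => hkΨ ⟨hk, h⟩
  let K : Fin D.rank := ⟨k, hk⟩
  let V := R.span (Psi R l)
  have haG : a ∈ D.group F := by
    rw [← chev_Upos hD hR] at ha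
    rw [← chev_G hD hR]
    exact R.B_le_G (R.Upos_le_B ha)
  have hnG : R.n K ∈ D.group F := by rw [← chev_G hD hR]; exact R.n_mem_G K
  have hV : Def V := by
    have h := hT.conj E hE a⁻¹ (inv_mem haG)
    rwa [hEa, ← RootData.map_conj_mul, inv_mul_cancel, RootData.map_conj_one] at h
  let E' := V.map (MulAut.conj (R.n K)).toMonoidHom
  have hne : ∀ q ∈ Psi R l, q ≠ R.simple K := fun q hq e => hkΨ' (e ▸ hq)
  have hE'U : E' ≤ D.posUnipotent F := by
    rw [← chev_Upos hD hR (F := F)]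
    rintro _ ⟨z, hz, rfl⟩
    exact R.span_conj (A' := {s | R.pos s}) (fun q hq y hy =>
      R.U_le_span (A := {s | R.pos s}) (R.w_pos K q hq.1 (hne q hq)) (R.n_conj_U K q y hy)) z hz
  obtain ⟨a', ha', l', hEa', hfix'⟩ := exists_normal hD hR hC hT (hT.conj V hV _ hnG) hE'U
  have hshape' := psi_shape hD hR hfix'
  -- the roots of `E'` are kept by `l'`
  obtain ⟨g, hg, eg⟩ := lin_comp hD hR F l' (isLin_ht hD M)
  replace eg : ∀ c : Fin D.nroots, g c.val = ht D M (R.ww l' c).val := eg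
  have hsub : ∀ q ∈ Psi R l, R.w K q ∈ Psi R l' := by
    intro q hq
    have hp := R.w_pos K q hq.1 (hne q hq)
    refine ⟨hp, ?_⟩
    set s := R.w K q
    have h1 : xg hD F s.val (1 : F) ∈ E' := by
      refine Subgroup.map_mono (U_le_span_psi R hq) ?_
      rw [R.map_conj_n]
      exact xg_mem_rootSubgroup hD _ _
    rw [show E' = V.map (MulAut.conj (R.n K)).toMonoidHom from rfl, hEa', RootData.mem_map_conj] at h1
    have hgen : R.span (Psi R l') ≤ Subgroup.closure {x : GL D.Idx F | ∃ (c : ℕ) (u : F),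
        c < D.nroots ∧ 0 < g c ∧ (x : Matrix D.Idx D.Idx F) = D.x F c u} := by
      refine R.span_le fun c hc y hy => ?_
      obtain ⟨u, rfl⟩ := (mem_rootSubgroup hD _).1 hy
      refine Subgroup.subset_closure ⟨c.val, u, c.isLt, ?_, coe_xg hD _ _⟩
      rw [eg c]
      exact hR.ht_pos _ (R.ww l' c).isLt hc.2
    have h2 := lead_pos hD hR hC (inv_mem ha') hp one_ne_zero hg (by simpa using hgen h1)
    rw [eg s] at h2
    by_contra hneg
    have h3 := hR.ht_pos _ (hD.neg_lt _ (R.ww l' s).isLt) ((pos_or_neg hD (R.ww l' s).isLt).2 hneg)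
    rw [(isLin_ht hD M).neg _ (R.ww l' s).isLt] at h3
    omega
  have hle : E' ≤ R.span (Psi R l') := by
    rintro _ ⟨z, hz, rfl⟩
    exact R.span_conj (A' := Psi R l') (fun q hq y hy =>
      U_le_span_psi R (hsub q hq) (R.n_conj_U K q y hy)) z hz
  have heq : E' = R.span (Psi R l') := Subgroup.eq_of_le_of_card_ge hle (le_of_eq (by
    rw [show E' = V.map (MulAut.conj (R.n K)).toMonoidHom from rfl, hEa',
      Subgroup.card_map_of_injective (MulAut.conj a').injective]))
  -- so those are all its roots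
  have hsup : ∀ s ∈ Psi R l', R.w K s ∈ Psi R l := by
    intro s hs
    have h1 : ∀ y ∈ R.U s, (R.n K)⁻¹ * y * R.n K ∈ V := fun y hy =>
      (RootData.mem_map_conj _).1 (heq.ge (U_le_span_psi R hs hy))
    have h2 : ∀ y ∈ R.U (R.w K s), y ∈ V := fun y hy => by
      have h3 := h1 _ (by simpa [R.w_w] using R.n_conj_U K (R.w K s) y hy)
      simpa [mul_assoc] using h3
    exact ⟨U_pos_of_le R fun y hy => span_psi_le_Upos R l (h2 y hy),
      conj_U_pos R (R.map_conj_U l _) fun z hz => conj_span_psi R l z (h2 z hz)⟩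
  let J : Fin D.rank := ⟨j, hj⟩
  set r := R.w K (R.simple J) with hr
  have hrΨ : r ∈ Psi R l' := hsub _ hjΨ
  have hco : co D M k r.val ≠ 0 := by
    show co D M k (wN D k (D.simple j)) ≠ 0
    rw [hR.co_refl hD hk (hD.simple_lt j hj) hk, if_pos rfl, hR.dual k hk j hj,
      if_neg fun e : k = j => hkΨ' (by subst e; exact hjΨ)]
    simp [hkj, hR.d_pos.ne']
  have hK' : R.simple K ∈ Psi R l' := by
    by_contra h
    exact hco (((hshape' r).1 hrΨ).2 K h)
  have := (hsup _ hK').1
  rw [R.w_simple, R.pos_neg] at this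
  exact this (R.pos_simple K)

end Cfsg.Agent.ChevBlocks
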